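import Mathlib

/-!
# Left exact functors preserve the homology of bounded below complexes of adapted objects (helper5)

Let `F : C ⥤ D` be a left exact additive functor between abelian categories and `P` a class of
objects of `C` adapted to `F` (stable under extensions and cokernels of monomorphisms, `F` exact on
short exact sequences with kernel in `P`).  If `K` is a bounded below complex whose terms and
homology objects are in `P`, then `F` preserves the (left) homology of `K` in each degree.
-/

set_option autoImplicit false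
open CategoryTheory Limits ZeroObject

namespace Groth.Agent.Lib.Helper5.QC

universe v₁ v₂ u₁ u₂
variable {C : Type u₁} [Category.{v₁} C] [Abelian C] {D : Type u₂} [Category.{v₂} D] [Abelian D]

/-- a class of objects adapted to a functor -/
structure Adapted (F : C ⥤ D) (P : C → Prop) : Prop where
  zero : ∀ Z : C, IsZero Z → P Z
  epi : ∀ S : ShortComplex C, S.ShortExact → P S.X₁ → Epi (F.map S.g)
  X₃ : ∀ S : ShortComplex C, S.ShortExact → P S.X₁ → P S.X₂ → P S.X₃
  X₂ : ∀ S : ShortComplex C, S.ShortExact → P S.X₁ → P S.X₃ → P S.X₂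

variable {F : C ⥤ D} {P : C → Prop}

theorem Adapted.of_iso (hP : Adapted F P) {A B : C} (e : A ≅ B) (hA : P A) : P B := by
  let S : ShortComplex C := ShortComplex.mk (0 : (0 : C) ⟶ A) e.hom (by simp)
  have hS : S.ShortExact :=
    { exact := ShortComplex.exact_of_f_is_kernel _ (by
        exact KernelFork.IsLimit.ofι _ _ (fun {W} g hg => 0)
          (fun g hg => by
            have : g = 0 := by
              rw [← cancel_mono e.hom, zero_comp]
              exact hg
            rw [this, zero_comp])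
          (fun g hg m hm => (isZero_zero C).eq_of_tgt _ _))
      mono_f := inferInstanceAs (Mono (0 : (0 : C) ⟶ A))
      epi_g := inferInstanceAs (Epi e.hom) }
  exact hP.X₃ S hS (hP.zero _ (isZero_zero C)) hA

variable [F.Additive] [PreservesFiniteLimits F]

/-- the basic step: `F` preserves the cokernel of `u = e ≫ m` -/
theorem preservesCokernel_of_adapted (hP : Adapted F P) (S₁ S₂ : ShortComplex C)
    (h₁ : S₁.ShortExact) (h₂ : S₂.ShortExact) (h₁P : P S₁.X₁) (h₂P : P S₂.X₁)
    (e : S₁.X₃ ≅ S₂.X₁) :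
    PreservesColimit (parallelPair (S₁.g ≫ e.hom ≫ S₂.f) 0) F := by
  have w : (S₁.g ≫ e.hom ≫ S₂.f) ≫ S₂.g = 0 := by
    rw [Category.assoc, Category.assoc, S₂.zero, comp_zero, comp_zero]
  have hc : IsColimit (CokernelCofork.ofπ S₂.g w) := by
    haveI := h₂.epi_g
    haveI := h₁.epi_g
    let T : ShortComplex C := ShortComplex.mk (S₁.g ≫ e.hom ≫ S₂.f) S₂.g w
    have hT : T.Exact := by
      let φ : T ⟶ S₂ :=
        { τ₁ := S₁.g ≫ e.hom
          τ₂ := 𝟙 _
          τ₃ := 𝟙 _
          comm₁₂ := by simp [T]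
          comm₂₃ := by simp [T] }
      haveI : Epi φ.τ₁ := inferInstanceAs (Epi (S₁.g ≫ e.hom))
      haveI : IsIso φ.τ₂ := inferInstanceAs (IsIso (𝟙 _))
      haveI : Mono φ.τ₃ := inferInstanceAs (Mono (𝟙 _))
      exact (ShortComplex.exact_iff_of_epi_of_isIso_of_mono φ).2 h₂.exact
    haveI : Epi T.g := inferInstanceAs (Epi S₂.g)
    exact hT.gIsCokernel
  refine preservesColimit_of_preserves_colimit_cocone hc ?_
  refine (isColimitMapCoconeCoforkEquiv' F w).symm ?_
  haveI : Epi (F.map S₁.g) := hP.epi S₁ h₁ h₁P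
  haveI : Epi (F.map S₂.g) := hP.epi S₂ h₂ h₂P
  haveI := h₂.mono_f
  have hE : (S₂.map F).Exact :=
    h₂.exact.map_of_mono_of_preservesKernel F inferInstance inferInstance
  let T' : ShortComplex D := ShortComplex.mk (F.map (S₁.g ≫ e.hom ≫ S₂.f)) (F.map S₂.g)
    (by rw [← F.map_comp, w, F.map_zero])
  have hT' : T'.Exact := by
    let φ : T' ⟶ S₂.map F :=
      { τ₁ := F.map S₁.g ≫ F.map e.hom
        τ₂ := 𝟙 _
        τ₃ := 𝟙 _
        comm₁₂ := by
          change (F.map S₁.g ≫ F.map e.hom) ≫ F.map S₂.f =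
            F.map (S₁.g ≫ e.hom ≫ S₂.f) ≫ 𝟙 (F.obj S₂.X₂)
          rw [Category.comp_id, Functor.map_comp, Functor.map_comp, Category.assoc]
        comm₂₃ := by
          change 𝟙 (F.obj S₂.X₂) ≫ F.map S₂.g = F.map S₂.g ≫ 𝟙 (F.obj S₂.X₃)
          rw [Category.comp_id, Category.id_comp] }
    haveI : Epi φ.τ₁ := inferInstanceAs (Epi (F.map S₁.g ≫ F.map e.hom))
    haveI : IsIso φ.τ₂ := inferInstanceAs (IsIso (𝟙 _))
    haveI : Mono φ.τ₃ := inferInstanceAs (Mono (𝟙 _))
    exact (ShortComplex.exact_iff_of_epi_of_isIso_of_mono φ).2 hE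
  haveI : Epi T'.g := inferInstanceAs (Epi (F.map S₂.g))
  exact hT'.gIsCokernel

variable (K : CochainComplex C ℤ)

/-- the inductive step -/
theorem cycles_step (hP : Adapted F P) (j : ℤ)
    (hXi : P (K.X ((ComplexShape.up ℤ).prev j)))
    (hZi : P (K.cycles ((ComplexShape.up ℤ).prev j))) (hHj : P (K.homology j)) :
    P (K.cycles j) ∧ F.PreservesLeftHomologyOf (K.sc j) := by
  have hij : (ComplexShape.up ℤ).next ((ComplexShape.up ℤ).prev j) = j := by simp
  obtain ⟨u, hu⟩ : ∃ u : K.X ((ComplexShape.up ℤ).prev j) ⟶ K.cycles j, u = (K.sc j).toCycles :=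
    ⟨_, rfl⟩
  have hu_i : u ≫ K.iCycles j = K.d ((ComplexShape.up ℤ).prev j) j := by
    rw [hu]
    exact (K.sc j).toCycles_i
  have hu_π : u ≫ K.homologyπ j = 0 := by
    rw [hu]
    exact (K.sc j).toCycles_comp_homologyπ
  have hcok : IsColimit (CokernelCofork.ofπ (K.homologyπ j) hu_π) := by
    subst hu
    exact (K.sc j).homologyIsCokernel
  have hfac := Abelian.image.fac u
  have z₁ : K.iCycles ((ComplexShape.up ℤ).prev j) ≫ Abelian.factorThruImage u = 0 := by
    rw [← cancel_mono (Abelian.image.ι u), ← cancel_mono (K.iCycles j), zero_comp, zero_comp,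
      Category.assoc, Category.assoc, reassoc_of% hfac, hu_i]
    exact K.iCycles_d _ _
  let S₁ : ShortComplex C := ShortComplex.mk _ _ z₁
  have h₁ : S₁.ShortExact :=
    { exact := ShortComplex.exact_of_f_is_kernel _
        (isKernelOfComp (Abelian.image.ι u ≫ K.iCycles j)
          (K.d ((ComplexShape.up ℤ).prev j) j)
          (K.cyclesIsKernel ((ComplexShape.up ℤ).prev j) j hij) z₁ (by
            rw [reassoc_of% hfac, hu_i]))
      mono_f := inferInstanceAs (Mono (K.iCycles _))
      epi_g := inferInstanceAs (Epi (Abelian.factorThruImage u)) }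
  have z₂ : Abelian.image.ι u ≫ K.homologyπ j = 0 := by
    rw [← cancel_epi (Abelian.factorThruImage u), reassoc_of% hfac, comp_zero, hu_π]
  let S₂ : ShortComplex C := ShortComplex.mk _ _ z₂
  have h₂ : S₂.ShortExact :=
    { exact := by
        let T : ShortComplex C := ShortComplex.mk u (K.homologyπ j) hu_π
        have hT : T.Exact := ShortComplex.exact_of_g_is_cokernel _ hcok
        let φ : T ⟶ S₂ :=
          { τ₁ := Abelian.factorThruImage u
            τ₂ := 𝟙 _
            τ₃ := 𝟙 _
            comm₁₂ := by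
              change Abelian.factorThruImage u ≫ Abelian.image.ι u = u ≫ 𝟙 _
              rw [hfac, Category.comp_id]
            comm₂₃ := by
              change 𝟙 _ ≫ K.homologyπ j = K.homologyπ j ≫ 𝟙 _
              rw [Category.comp_id, Category.id_comp] }
        haveI : Epi φ.τ₁ := inferInstanceAs (Epi (Abelian.factorThruImage u))
        haveI : IsIso φ.τ₂ := inferInstanceAs (IsIso (𝟙 _))
        haveI : Mono φ.τ₃ := inferInstanceAs (Mono (𝟙 _))
        exact (ShortComplex.exact_iff_of_epi_of_isIso_of_mono φ).1 hT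
      mono_f := inferInstanceAs (Mono (Abelian.image.ι u))
      epi_g := inferInstanceAs (Epi (K.homologyπ j)) }
  have hB : P (Abelian.image u) := hP.X₃ S₁ h₁ hZi hXi
  refine ⟨hP.X₂ S₂ h₂ hB hHj, ?_⟩
  have hc := preservesCokernel_of_adapted hP S₁ S₂ h₁ h₂ hZi hB (Iso.refl _)
  have e : S₁.g ≫ (Iso.refl S₁.X₃).hom ≫ S₂.f = u := by
    change Abelian.factorThruImage u ≫ 𝟙 _ ≫ Abelian.image.ι u = _
    rw [Category.id_comp, hfac]
  rw [e, hu] at hc
  haveI : (K.sc j).leftHomologyData.IsPreservedBy F :=
    { g := inferInstance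
      f' := hc }
  exact Functor.PreservesLeftHomologyOf.mk' F (K.sc j).leftHomologyData

/-- **the main theorem**: cycles are in `P` and `F` preserves the left homology, in each degree -/
theorem cycles_mem_and_preserves (hP : Adapted F P) (a : ℤ) [K.IsStrictlyGE a]
    (hX : ∀ i, P (K.X i)) (hH : ∀ i, P (K.homology i)) (j : ℤ) :
    P (K.cycles j) ∧ F.PreservesLeftHomologyOf (K.sc j) := by
  have hlow : ∀ i, i < a → P (K.cycles i) := by
    intro i hi
    refine hP.zero _ ?_
    have hz : IsZero (K.X i) := K.isZero_of_isStrictlyGE a i hi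
    exact IsZero.of_mono (K.iCycles i) hz
  have hall : ∀ n : ℕ, P (K.cycles (a - 1 + n)) := by
    intro n
    induction n with
    | zero => exact hlow _ (by simp)
    | succ n ih =>
      have hp : (ComplexShape.up ℤ).prev (a - 1 + ((n + 1 : ℕ) : ℤ)) = a - 1 + (n : ℤ) := by
        simp
        omega
      refine (cycles_step K hP _ (hX _) ?_ (hH _)).1
      rw [hp]
      exact ih
  have hcyc : ∀ i, P (K.cycles i) := by
    intro i
    by_cases hi : i < a
    · exact hlow i hi
    · obtain ⟨n, hn⟩ := Int.eq_ofNat_of_zero_le (show 0 ≤ i - (a - 1) by omega)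
      have : i = a - 1 + (n : ℤ) := by omega
      rw [this]
      exact hall n
  exact cycles_step K hP j (hX _) (hcyc _) (hH _)

end Groth.Agent.Lib.Helper5.QC
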