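import Mathlib
import Groth.Agent.Lib.Helper5.QC.AbsHom
import Groth.Agent.Lib.Helper5.Misc.TotAcyc

/-!
# Objects acyclic for `Hom(W, -)` (helper5)

In an abelian category with `Ext`, the objects `M` with `Ext^p(W, M) = 0` for `p > 0` (for all `W`
in a given family) form a class adapted to each `Hom(W, -)`.
-/

set_option autoImplicit false
open CategoryTheory Limits Opposite Abelian

namespace Groth.Agent.Lib.Helper5.QC

universe w v u
variable {A : Type u} [Category.{v} A] [Abelian A] [HasExt.{w} A]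

open Groth.Agent.Lib.Helper5.Misc.TotAcyc

/-- `M` is acyclic for `Hom(W, -)` -/
def ExtAcyc (W M : A) : Prop := ∀ p : ℕ, Subsingleton (Ext W M (p + 1))

/-- `M` is acyclic for `Hom(W, -)` for all `W` in a family -/
def FamAcyc (𝒲 : Set A) (M : A) : Prop := ∀ W ∈ 𝒲, ExtAcyc W M

theorem extAcyc_of_injective (W M : A) [Injective M] : ExtAcyc W M :=
  fun _ => subsingleton_of_forall_eq 0 fun x => Ext.eq_zero_of_injective x

theorem famAcyc_of_injective (𝒲 : Set A) (M : A) [Injective M] : FamAcyc 𝒲 M :=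
  fun W _ => extAcyc_of_injective W M

theorem extAcyc_of_isZero (W M : A) (hM : IsZero M) : ExtAcyc W M := by
  haveI : Injective M := ⟨fun {X Y} g f _ => ⟨0, hM.eq_of_tgt _ _⟩⟩
  exact extAcyc_of_injective W M

/-- vanishing of `Ext^{n+1}(X, S.X₂)` from that of `Ext^{n+1}(X, S.X₁)` and `Ext^{n+1}(X, S.X₃)` -/
lemma subsingleton_ext_X₂ (S : ShortComplex A) (hS : S.ShortExact) (X : A) (n : ℕ)
    (h₁ : Subsingleton (Ext X S.X₁ (n + 1))) (h₃ : Subsingleton (Ext X S.X₃ (n + 1))) :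
    Subsingleton (Ext X S.X₂ (n + 1)) := by
  refine subsingleton_of_forall_eq 0 fun x₂ => ?_
  have h0 : x₂.comp (Ext.mk₀ S.g) (add_zero _) = 0 := Subsingleton.elim _ _
  obtain ⟨x₁, hx₁⟩ := Ext.covariant_sequence_exact₂ _ hS x₂ h0
  rw [← hx₁, Subsingleton.elim x₁ 0, Ext.zero_comp]

theorem extAcyc_X₃ (W : A) (S : ShortComplex A) (hS : S.ShortExact)
    (h₁ : ExtAcyc W S.X₁) (h₂ : ExtAcyc W S.X₂) : ExtAcyc W S.X₃ :=
  fun p => subsingleton_ext_X₃ S hS W p (h₂ p) (h₁ (p + 1))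

theorem extAcyc_X₂ (W : A) (S : ShortComplex A) (hS : S.ShortExact)
    (h₁ : ExtAcyc W S.X₁) (h₃ : ExtAcyc W S.X₃) : ExtAcyc W S.X₂ :=
  fun p => subsingleton_ext_X₂ S hS W p (h₁ p) (h₃ p)

theorem epi_coyoneda_map (W : A) (S : ShortComplex A) (hS : S.ShortExact)
    (h₁ : ExtAcyc W S.X₁) : Epi ((preadditiveCoyoneda.obj (op W)).map S.g) := by
  rw [AddCommGrpCat.epi_iff_surjective]
  intro s
  obtain ⟨τ, hτ⟩ := exists_lift S hS W (h₁ 0) s
  exact ⟨τ, hτ⟩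

/-- the class of `𝒲`-acyclic objects is adapted to `Hom(W, -)` for `W ∈ 𝒲` -/
theorem adapted_famAcyc (𝒲 : Set A) (W : A) (hW : W ∈ 𝒲) :
    Adapted (preadditiveCoyoneda.obj (op W)) (FamAcyc 𝒲) where
  zero Z hZ := fun W' _ => extAcyc_of_isZero W' Z hZ
  epi S hS h₁ := epi_coyoneda_map W S hS (h₁ W hW)
  X₃ S hS h₁ h₂ := fun W' hW' => extAcyc_X₃ W' S hS (h₁ W' hW') (h₂ W' hW')
  X₂ S hS h₁ h₃ := fun W' hW' => extAcyc_X₂ W' S hS (h₁ W' hW') (h₃ W' hW')

end Groth.Agent.Lib.Helper5.QC
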