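import Mathlib

/-!
# Detecting exactness with a separating family of objects (helper5)
-/

set_option autoImplicit false
open CategoryTheory Limits Opposite Pretriangulated

namespace Groth.Agent.Lib.Helper5.QC

universe w v u

section Cone

lemma epi_map_iff_of_iso' {C : Type*} [Category C] {D : Type*} [Category D] {F G : C ⥤ D} (e : F ≅ G) {X Y : C}
    (f : X ⟶ Y) : Epi (F.map f) ↔ Epi (G.map f) := by
  constructor
  · intro h
    have : G.map f = e.inv.app X ≫ F.map f ≫ e.hom.app Y := by simp
    rw [this]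
    infer_instance
  · intro h
    have : F.map f = e.hom.app X ≫ G.map f ≫ e.inv.app Y := by simp
    rw [this]
    infer_instance

lemma mono_map_iff_of_iso' {C : Type*} [Category C] {D : Type*} [Category D] {F G : C ⥤ D} (e : F ≅ G) {X Y : C}
    (f : X ⟶ Y) : Mono (F.map f) ↔ Mono (G.map f) := by
  constructor
  · intro h
    have : G.map f = e.inv.app X ≫ F.map f ≫ e.hom.app Y := by simp
    rw [this]
    infer_instance
  · intro h
    have : F.map f = e.hom.app X ≫ G.map f ≫ e.inv.app Y := by simp
    rw [this]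
    infer_instance

variable {C : Type u} [Category.{v} C] [Abelian C] [HasDerivedCategory.{w} C]

open DerivedCategory

lemma epi_H_iff' {K L : CochainComplex C ℤ} (φ : K ⟶ L) (n : ℤ) :
    Epi ((homologyFunctor C n).map (Q.map φ)) ↔ Epi (HomologicalComplex.homologyMap φ n) :=
  epi_map_iff_of_iso' (homologyFunctorFactors C n) φ

lemma mono_H_iff' {K L : CochainComplex C ℤ} (φ : K ⟶ L) (n : ℤ) :
    Mono ((homologyFunctor C n).map (Q.map φ)) ↔ Mono (HomologicalComplex.homologyMap φ n) :=
  mono_map_iff_of_iso' (homologyFunctorFactors C n) φ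

lemma exactAt_iff_isZero_H' (K : CochainComplex C ℤ) (i : ℤ) :
    K.ExactAt i ↔ IsZero ((homologyFunctor C i).obj (Q.obj K)) := by
  rw [HomologicalComplex.exactAt_iff_isZero_homology]
  exact ((homologyFunctorFactors C i).app K).symm.isZero_iff

/-- the cone of `φ` is exact in degree `j` if `φ` is surjective on `H^j` and injective on
`H^{j+1}` -/
theorem exactAt_cone_of_epi_mono' {K L : CochainComplex C ℤ} (φ : K ⟶ L) (j m : ℤ)
    (hjm : j + 1 = m)
    (h1 : Epi (HomologicalComplex.homologyMap φ j))
    (h2 : Mono (HomologicalComplex.homologyMap φ m)) :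
    (CochainComplex.mappingCone φ).ExactAt j := by
  rw [exactAt_iff_isZero_H']
  have hT := mappingCone_triangle_distinguished φ
  refine (HomologySequence.exact₃ _ hT j m hjm).isZero_of_both_zeros ?_ ?_
  · exact (HomologySequence.epi_homologyMap_mor₁_iff _ hT j).1 ((epi_H_iff' φ j).2 h1)
  · exact (HomologySequence.mono_homologyMap_mor₁_iff _ hT j m hjm).1
      ((mono_H_iff' φ m).2 h2)

/-- `φ` is injective on `H^{j+1}` if its cone is exact in degree `j` -/
theorem mono_homologyMap_of_exactAt_cone {K L : CochainComplex C ℤ} (φ : K ⟶ L) (j m : ℤ)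
    (hjm : j + 1 = m) (h : (CochainComplex.mappingCone φ).ExactAt j) :
    Mono (HomologicalComplex.homologyMap φ m) := by
  rw [exactAt_iff_isZero_H'] at h
  have hT := mappingCone_triangle_distinguished φ
  rw [← mono_H_iff']
  exact (HomologySequence.mono_homologyMap_mor₁_iff _ hT j m hjm).2 (h.eq_of_src _ _)

end Cone

variable {A : Type u} [Category.{v} A] [Abelian A]

/-- a family of objects detecting the vanishing of morphisms -/
def Detects (𝒲 : Set A) : Prop :=
  ∀ ⦃M N : A⦄ (f : M ⟶ N), (∀ W ∈ 𝒲, ∀ g : W ⟶ M, g ≫ f = 0) → f = 0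

/-- exactness of a short complex can be checked by lifting maps from a detecting family -/
theorem exact_of_detects {𝒲 : Set A} (h𝒲 : Detects 𝒲) (S : ShortComplex A)
    (hS : ∀ W ∈ 𝒲, ∀ x : W ⟶ S.X₂, x ≫ S.g = 0 → ∃ y : W ⟶ S.X₁, y ≫ S.f = x) : S.Exact := by
  rw [S.exact_iff_epi_toCycles]
  apply Preadditive.epi_of_cancel_zero
  intro Q c hc
  apply h𝒲
  intro W hW g
  obtain ⟨y, hy⟩ := hS W hW (g ≫ S.iCycles) (by rw [Category.assoc, S.iCycles_g, comp_zero])
  have hg : y ≫ S.toCycles = g := by
    rw [← cancel_mono S.iCycles, Category.assoc, S.toCycles_i, hy]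
  rw [← hg, Category.assoc, hc, comp_zero]

/-- the functor `Hom(W, -)` to abelian groups -/
abbrev coy (W : A) : A ⥤ AddCommGrpCat.{v} := preadditiveCoyoneda.obj (op W)

lemma exact_map_coy_iff (W : A) (S : ShortComplex A) :
    (S.map (coy W)).Exact ↔
      ∀ x : W ⟶ S.X₂, x ≫ S.g = 0 → ∃ y : W ⟶ S.X₁, y ≫ S.f = x := by
  rw [ShortComplex.ab_exact_iff]
  rfl

/-- exactness of a short complex can be checked after applying `Hom(W, -)` for `W` in
a detecting family -/
theorem exact_of_detects_coy {𝒲 : Set A} (h𝒲 : Detects 𝒲) (S : ShortComplex A)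
    (hS : ∀ W ∈ 𝒲, (S.map (coy W)).Exact) : S.Exact :=
  exact_of_detects h𝒲 S (fun W hW => (exact_map_coy_iff W S).1 (hS W hW))

/-- exactness of a complex in a degree can be checked after applying `Hom(W, -)` for `W` in
a detecting family -/
theorem exactAt_of_detects_coy {𝒲 : Set A} (h𝒲 : Detects 𝒲) (K : CochainComplex A ℤ) (j : ℤ)
    (hK : ∀ W ∈ 𝒲, (((coy W).mapHomologicalComplex (ComplexShape.up ℤ)).obj K).ExactAt j) :
    K.ExactAt j := by
  rw [HomologicalComplex.exactAt_iff' K (j - 1) j (j + 1) (by simp) (by simp)]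
  apply exact_of_detects_coy h𝒲
  intro W hW
  have := hK W hW
  rw [HomologicalComplex.exactAt_iff' _ (j - 1) j (j + 1) (by simp) (by simp)] at this
  exact this

attribute [local instance] HasDerivedCategory.standard

/-- injectivity on `H^m` can be checked after applying `Hom(W, -)` for `W` in a detecting
family, at the price of surjectivity on `H^(m-1)` -/
theorem mono_homologyMap_of_detects_coy {𝒲 : Set A} (h𝒲 : Detects 𝒲)
    {K L : CochainComplex A ℤ} (φ : K ⟶ L) (j m : ℤ) (hjm : j + 1 = m)
    (h : ∀ W ∈ 𝒲,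
      Epi (HomologicalComplex.homologyMap
        (((coy W).mapHomologicalComplex (ComplexShape.up ℤ)).map φ) j) ∧
      Mono (HomologicalComplex.homologyMap
        (((coy W).mapHomologicalComplex (ComplexShape.up ℤ)).map φ) m)) :
    Mono (HomologicalComplex.homologyMap φ m) := by
  apply mono_homologyMap_of_exactAt_cone φ j m hjm
  apply exactAt_of_detects_coy h𝒲
  intro W hW
  obtain ⟨h1, h2⟩ := h W hW
  exact (exactAt_cone_of_epi_mono' _ j m hjm h1 h2).of_iso
    (CochainComplex.mappingCone.mapHomologicalComplexIso φ (coy W)).symm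

end Groth.Agent.Lib.Helper5.QC
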