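import Mathlib
import Groth.Agent.Lib.Helper5.KInj.Main

/-!
# The cohomology of the limit of a tower which stabilizes (helper5)

If the transition maps of a tower of complexes (termwise split epimorphisms, in an abelian
category with exact countable products) are eventually isomorphisms on `H^(m-1)` and `H^m`,
then `H^m(lim) ⟶ H^m(I_N)` is an isomorphism for `N` large.
-/

open CategoryTheory Limits CochainComplex HomologicalComplex

namespace Helper5.KInj

universe w v u

/-- a compatible family through a given element, when the transition maps of a tower of sets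
are eventually surjective -/
theorem exists_compat : ∀ (N : ℕ) {G : ℕ → Type w}
    (φ : ∀ n, G (n + 1) → G n) (_ : ∀ n, N ≤ n → Function.Surjective (φ n)) (x : G N),
    ∃ y : ∀ n, G n, (∀ n, φ n (y (n + 1)) = y n) ∧ y N = x
  | 0, G, φ, hφ, x => by
    let y : ∀ n, G n := fun n => Nat.rec (motive := fun n => G n) x
      (fun n yn => Function.surjInv (hφ n (Nat.zero_le n)) yn) n
    refine ⟨y, fun n => ?_, rfl⟩
    have h1 : y (n + 1) = Function.surjInv (hφ n (Nat.zero_le n)) (y n) := rfl
    rw [h1, Function.surjInv_eq (hφ n (Nat.zero_le n))]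
  | N + 1, G, φ, hφ, x => by
    obtain ⟨y', hy', hx'⟩ := exists_compat N (G := fun n => G (n + 1)) (fun n => φ (n + 1))
      (fun n hn => hφ (n + 1) (Nat.succ_le_succ hn)) x
    let y : ∀ n, G n := fun n => match n with
      | 0 => φ 0 (y' 0)
      | n + 1 => y' n
    refine ⟨y, fun n => ?_, hx'⟩
    cases n with
    | zero => rfl
    | succ n => exact hy' n

variable {A : Type u} [Category.{v} A] [Abelian A] [HasLimitsOfShape (Discrete ℕ) A]
  [HasExactLimitsOfShape (Discrete ℕ) A]

variable (I : ℕ → CochainComplex A ℤ) (p : ∀ n, I (n + 1) ⟶ I n)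
variable (hp : ∀ n k, ∃ σ : (I n).X k ⟶ (I (n + 1)).X k, σ ≫ (p n).f k = 𝟙 _)

include hp in
/-- if the transition maps are eventually isomorphisms on `H^m`, then
`H^m(lim) → H^m(I_N)` is an epimorphism for `N` large -/
lemma epi_homologyMap_holimι_π (m : ℤ) (N : ℕ)
    (hN : ∀ n, N ≤ n → IsIso (homologyMap (p n) m)) :
    Epi (homologyMap (holimι I p ≫ prodCx.π I N) m) := by
  obtain ⟨c, hc, hcN⟩ := exists_compat N
    (G := fun n => ((I N).homology m ⟶ (I n).homology m))
    (fun n f => f ≫ homologyMap (p n) m)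
    (fun n hn f => by
      haveI := hN n hn
      exact ⟨f ≫ inv (homologyMap (p n) m), by
        change (f ≫ inv (homologyMap (p n) m)) ≫ homologyMap (p n) m = f
        rw [Category.assoc, IsIso.inv_hom_id, Category.comp_id]⟩)
    (𝟙 _)
  obtain ⟨z, hz⟩ := prodCx.homology_lift I m c
  have hzD : z ≫ homologyMap (Dm I p) m = 0 := by
    apply prodCx.homology_hom_ext I m
    intro n
    rw [Category.assoc, homologyMap_Dm_π, Preadditive.comp_sub, hz, reassoc_of% (hz (n + 1)),
      zero_comp, hc n, sub_self]
  have hS := holimSC_shortExact I p hp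
  obtain ⟨A', π, hπ, x₁, hx₁⟩ : ∃ (A' : A) (π : A' ⟶ (I N).homology m) (_ : Epi π)
      (x₁ : A' ⟶ (holim I p).homology m), π ≫ z = x₁ ≫ homologyMap (holimι I p) m :=
    (hS.homology_exact₂ m).exact_up_to_refinements z hzD
  have hfac : x₁ ≫ homologyMap (holimι I p ≫ prodCx.π I N) m = π := by
    rw [homologyMap_comp, ← reassoc_of% hx₁, hz, hcN, Category.comp_id]
  exact epi_of_epi_fac hfac

include hp in
/-- if the transition maps are eventually isomorphisms on `H^(m-1)` and `H^m`, then
`H^m(lim) → H^m(I_N)` is an isomorphism for `N` large -/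
theorem isIso_homologyMap_holimι_π (j m : ℤ) (hjm : j + 1 = m) (N' : ℕ)
    (hN' : ∀ n, N' ≤ n → IsIso (homologyMap (p n) j)) (N : ℕ)
    (hN : ∀ n, N ≤ n → IsIso (homologyMap (p n) m)) :
    IsIso (homologyMap (holimι I p ≫ prodCx.π I N) m) := by
  haveI := mono_homologyMap_holimι_π I p hp j m hjm N' hN' N hN
  haveI := epi_homologyMap_holimι_π I p hp m N hN
  exact isIso_of_mono_of_epi _

end Helper5.KInj
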