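import Mathlib
import Groth.Agent.Lib.Helper5.QC.TowerIso

/-!
# Additive functors preserving countable products and limits of towers (helper5)

For an additive functor `F` preserving countable products, and a tower of complexes with
termwise split epimorphic transition maps, `F(lim I) ≅ lim F(I)`, and the cohomology of
`F(lim I)` is computed by `F(I_N)` for `N` large when the tower `F(I)` stabilizes.
-/

open CategoryTheory Limits CochainComplex HomologicalComplex

namespace Helper5.KInj

universe v v' u u'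

variable {A : Type u} [Category.{v} A] [Abelian A] [HasLimitsOfShape (Discrete ℕ) A]
  {B : Type u'} [Category.{v'} B] [Abelian B] [HasLimitsOfShape (Discrete ℕ) B]
  (F : A ⥤ B) [F.Additive] [PreservesLimitsOfShape (Discrete ℕ) F]

variable (I : ℕ → CochainComplex A ℤ) (p : ∀ n, I (n + 1) ⟶ I n)

/-- the functor induced on complexes -/
abbrev FC : CochainComplex A ℤ ⥤ CochainComplex B ℤ :=
  F.mapHomologicalComplex (ComplexShape.up ℤ)

/-- the image tower -/
abbrev mI (n : ℕ) : CochainComplex B ℤ := (FC F).obj (I n)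

/-- the transition maps of the image tower -/
abbrev mp (n : ℕ) : mI F I (n + 1) ⟶ mI F I n := (FC F).map (p n)

/-- the comparison map `F(∏ I) ⟶ ∏ F(I)` -/
noncomputable def prodCmp : (FC F).obj (prodCx I) ⟶ prodCx (mI F I) :=
  prodCx.lift (fun n => (FC F).map (prodCx.π I n))

@[reassoc (attr := simp)]
lemma prodCmp_π (n : ℕ) : prodCmp F I ≫ prodCx.π (mI F I) n = (FC F).map (prodCx.π I n) :=
  prodCx.lift_π _ _

lemma isIso_piComparison' (k : ℤ) : IsIso (piComparison F (fun n => (I n).X k)) := by
  infer_instance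

instance (k : ℤ) : IsIso ((prodCmp F I).f k) := isIso_piComparison' F I k

instance : IsIso (prodCmp F I) := HomologicalComplex.Hom.isIso_of_components _

lemma map_Dm_prodCmp :
    (FC F).map (Dm I p) ≫ prodCmp F I = prodCmp F I ≫ Dm (mI F I) (mp F I p) := by
  apply prodCx.hom_ext
  intro n
  rw [Category.assoc, prodCmp_π, ← Functor.map_comp, Dm_π, Functor.map_sub, Functor.map_comp,
    Category.assoc, Dm_π, Preadditive.comp_sub, prodCmp_π, prodCmp_π_assoc]

variable (hp : ∀ n k, ∃ σ : (I n).X k ⟶ (I (n + 1)).X k, σ ≫ (p n).f k = 𝟙 _)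

include hp in
lemma mp_section (n : ℕ) (k : ℤ) :
    ∃ σ : (mI F I n).X k ⟶ (mI F I (n + 1)).X k, σ ≫ (mp F I p n).f k = 𝟙 _ := by
  obtain ⟨σ, hσ⟩ := hp n k
  refine ⟨F.map σ, ?_⟩
  change F.map σ ≫ F.map ((p n).f k) = 𝟙 (F.obj ((I n).X k))
  rw [← F.map_comp, hσ, F.map_id]

include hp in
/-- the image under `F` of the sequence `0 → lim → ∏ → ∏ → 0` is short exact -/
lemma map_holimSC_shortExact : ((holimSC I p).map (FC F)).ShortExact := by
  apply HomologicalComplex.shortExact_of_degreewise_shortExact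
  intro k
  obtain ⟨s, hs⟩ := exists_section_Dm I p hp k
  have spl : ((holimSC I p).map (HomologicalComplex.eval A (ComplexShape.up ℤ) k)).Splitting := by
    refine ShortComplex.Splitting.ofExactOfSection _
      ((holimSC_exact I p).map (HomologicalComplex.eval A (ComplexShape.up ℤ) k)) s hs ?_
    change Mono ((holimι I p).f k)
    infer_instance
  exact (spl.map F).shortExact

/-- the comparison map `F(lim I) ⟶ lim F(I)` -/
noncomputable def holimCmp : (FC F).obj (holim I p) ⟶ holim (mI F I) (mp F I p) :=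
  kernel.lift (Dm (mI F I) (mp F I p)) ((FC F).map (holimι I p) ≫ prodCmp F I) (by
    rw [Category.assoc, ← map_Dm_prodCmp, ← Functor.map_comp_assoc, holimι_Dm,
      Functor.map_zero, zero_comp])

@[reassoc (attr := simp)]
lemma holimCmp_ι : holimCmp F I p ≫ holimι (mI F I) (mp F I p) =
    (FC F).map (holimι I p) ≫ prodCmp F I :=
  kernel.lift_ι _ _ _

@[reassoc]
lemma holimCmp_ι_π (n : ℕ) :
    holimCmp F I p ≫ holimι (mI F I) (mp F I p) ≫ prodCx.π (mI F I) n =
      (FC F).map (holimι I p ≫ prodCx.π I n) := by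
  rw [holimCmp_ι_assoc, prodCmp_π, Functor.map_comp]

include hp in
lemma isIso_holimCmp : IsIso (holimCmp F I p) := by
  have hS := map_holimSC_shortExact F I p hp
  haveI : Mono ((holimSC I p).map (FC F)).f := hS.mono_f
  haveI : Mono ((FC F).map (holimι I p)) := hS.mono_f
  have h0 : (holimι (mI F I) (mp F I p) ≫ inv (prodCmp F I)) ≫ (FC F).map (Dm I p) = 0 := by
    have h1 : (FC F).map (Dm I p) =
        prodCmp F I ≫ Dm (mI F I) (mp F I p) ≫ inv (prodCmp F I) := by
      rw [← reassoc_of% (map_Dm_prodCmp F I p), IsIso.hom_inv_id, Category.comp_id]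
    rw [h1, Category.assoc, IsIso.inv_hom_id_assoc, holimι_Dm_assoc, zero_comp]
  obtain ⟨r, hr⟩ : ∃ r : holim (mI F I) (mp F I p) ⟶ (FC F).obj (holim I p),
      r ≫ (FC F).map (holimι I p) = holimι (mI F I) (mp F I p) ≫ inv (prodCmp F I) :=
    ⟨hS.exact.lift _ h0, hS.exact.lift_f _ h0⟩
  refine ⟨r, ?_, ?_⟩
  · rw [← cancel_mono ((FC F).map (holimι I p)), Category.assoc, hr, holimCmp_ι_assoc,
      IsIso.hom_inv_id, Category.comp_id, Category.id_comp]
  · rw [← cancel_mono (holimι (mI F I) (mp F I p)), Category.assoc, holimCmp_ι,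
      reassoc_of% hr, IsIso.inv_hom_id, Category.comp_id, Category.id_comp]

variable [HasExactLimitsOfShape (Discrete ℕ) B]

include hp in
/-- the cohomology of `F(lim I)` is computed by `F(I_N)` when the tower `F(I)` stabilizes -/
theorem isIso_homologyMap_map_holimπ (j m : ℤ) (hjm : j + 1 = m) (N' : ℕ)
    (hN' : ∀ n, N' ≤ n → IsIso (homologyMap ((FC F).map (p n)) j)) (N : ℕ)
    (hN : ∀ n, N ≤ n → IsIso (homologyMap ((FC F).map (p n)) m)) :
    IsIso (homologyMap ((FC F).map (holimι I p ≫ prodCx.π I N)) m) := by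
  haveI := isIso_holimCmp F I p hp
  haveI := isIso_homologyMap_holimι_π (mI F I) (mp F I p) (mp_section F I p hp) j m hjm N' hN' N hN
  rw [← holimCmp_ι_π, homologyMap_comp]
  infer_instance

end Helper5.KInj
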