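import Mathlib
import Groth.Agent.Lib.Helper5.QC.Acyc
import Groth.Agent.Lib.Helper5.QC.HolimMap
import Groth.Agent.Lib.Helper5.QC.GenExact
import Groth.Agent.Lib.Helper5.KInj.Resolution

/-!
# Spaltenstein's resolution for complexes with acyclic cohomology (helper5)

Let `A` be an abelian category with enough injectives and countable products, and `𝒲` a family
of objects detecting the vanishing of morphisms.  If `E` is a complex all of whose cohomology
objects are `Ext(W, -)`-acyclic for `W ∈ 𝒲`, then `E ⟶ lim_n I_n` is a quasi-isomorphism, where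
`I_n` is the tower of injective resolutions of the truncations `τ_{≥ -n} E`.  Moreover the
cohomology of `F(lim I_n)` is computed by `F(I_N)` for `N` large, for any adapted functor `F`.
-/

set_option autoImplicit false
open CategoryTheory Limits Opposite Abelian HomologicalComplex

namespace Groth.Agent.Lib.Helper5.QC

open Helper5.KInj

universe w v' v u' u

variable {A : Type u} [Category.{v} A] [Abelian A] [HasExt.{w} A]

theorem FamAcyc.of_iso {𝒲 : Set A} {M N : A} (e : M ≅ N) (h : FamAcyc 𝒲 M) : FamAcyc 𝒲 N :=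
  fun W hW => ((adapted_famAcyc 𝒲 W hW).of_iso e h) W hW

instance preservesCountableProducts_coy (W : A) :
    PreservesLimitsOfShape (Discrete ℕ) (coy W) :=
  preservesLimitsOfShape_of_equiv (Discrete.equivalence Equiv.ulift.{v, 0}) _

variable [EnoughInjectives A]

variable (𝒲 : Set A) (E : CochainComplex A ℤ)

lemma quasiIsoAt_tp (n : ℕ) (j : ℤ) (h : -(n : ℤ) ≤ j) : QuasiIsoAt (tp E n) j := by
  haveI := quasiIsoAt_ta E n j h
  haveI := quasiIsoAt_ta E (n + 1) j (by push_cast; omega)
  haveI : QuasiIsoAt (ta E (n + 1) ≫ tp E n) j := by rw [ta_tp]; infer_instance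
  exact quasiIsoAt_of_comp_left (ta E (n + 1)) (tp E n) j

section

variable (hE : ∀ m, FamAcyc 𝒲 (E.homology m))

include hE

lemma famAcyc_homology_tI (n : ℕ) (m : ℤ) : FamAcyc 𝒲 ((tI E n).homology m) := by
  by_cases h : -(n : ℤ) ≤ m
  · haveI := quasiIsoAt_ta E n m h
    haveI : IsIso (homologyMap (ta E n) m) :=
      (quasiIsoAt_iff_isIso_homologyMap (ta E n) m).1 inferInstance
    exact (hE m).of_iso (asIso (homologyMap (ta E n) m))
  · haveI := (stage E n).qi
    haveI : IsIso (homologyMap (stage E n).i m) :=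
      (quasiIsoAt_iff_isIso_homologyMap (stage E n).i m).1 inferInstance
    have hz : IsZero ((E.truncGE (-(n : ℤ))).homology m) :=
      ((E.truncGE (-(n : ℤ))).exactAt_of_isGE (-(n : ℤ)) m (by omega)).isZero_homology
    intro W hW
    exact extAcyc_of_isZero W _ (hz.of_iso (asIso (homologyMap (stage E n).i m)).symm)

variable {B : Type u'} [Category.{v'} B] [Abelian B] (F : A ⥤ B) [F.Additive]
  [PreservesFiniteLimits F] (hF : Adapted F (FamAcyc 𝒲))

include hF

lemma preservesLeftHomologyOf_tI (n : ℕ) (j : ℤ) :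
    F.PreservesLeftHomologyOf ((tI E n).sc j) :=
  haveI := (stage E n).strict
  (cycles_mem_and_preserves (tI E n) hF (-((n : ℤ) + 1))
    (fun _ => famAcyc_of_injective 𝒲 _) (fun i => famAcyc_homology_tI 𝒲 E hE n i) j).2

omit hE hF in
lemma quasiIsoAt_map_of_preservesLeft {K L : CochainComplex A ℤ} (f : K ⟶ L) (j : ℤ)
    [F.PreservesLeftHomologyOf (K.sc j)] [F.PreservesLeftHomologyOf (L.sc j)]
    (h : QuasiIsoAt f j) : QuasiIsoAt ((FC F).map f) j := by
  rw [quasiIsoAt_iff] at h ⊢
  haveI := h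
  exact (inferInstance : ShortComplex.QuasiIso
    (F.mapShortComplex.map ((shortComplexFunctor A (ComplexShape.up ℤ) j).map f)))

lemma isIso_homologyMap_map_tp (n : ℕ) (j : ℤ) (h : -(n : ℤ) ≤ j) :
    IsIso (homologyMap ((FC F).map (tp E n)) j) := by
  haveI := preservesLeftHomologyOf_tI 𝒲 E hE F hF n j
  haveI := preservesLeftHomologyOf_tI 𝒲 E hE F hF (n + 1) j
  exact (quasiIsoAt_iff_isIso_homologyMap _ j).1
    (quasiIsoAt_map_of_preservesLeft F (tp E n) j (quasiIsoAt_tp E n j h))

variable [HasLimitsOfShape (Discrete ℕ) A] [HasLimitsOfShape (Discrete ℕ) B]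
  [HasExactLimitsOfShape (Discrete ℕ) B] [PreservesLimitsOfShape (Discrete ℕ) F]

/-- the projection from the limit -/
noncomputable abbrev tπ (N : ℕ) : holim (tI E) (tp E) ⟶ tI E N :=
  holimι (tI E) (tp E) ≫ prodCx.π (tI E) N

/-- the cohomology of `F(lim I)` in degree `m` is computed by `F(I_N)` for `N ≥ 1 - m` -/
theorem isIso_homologyMap_map_tπ (m : ℤ) (N : ℕ) (hN : 1 - m ≤ N) :
    IsIso (homologyMap ((FC F).map (tπ E N)) m) :=
  isIso_homologyMap_map_holimπ F (tI E) (tp E) (exists_section_tp E) (m - 1) m (by omega) N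
    (fun n hn => isIso_homologyMap_map_tp 𝒲 E hE F hF n (m - 1) (by
      have : (N : ℤ) ≤ n := by exact_mod_cast hn
      omega)) N
    (fun n hn => isIso_homologyMap_map_tp 𝒲 E hE F hF n m (by
      have : (N : ℤ) ≤ n := by exact_mod_cast hn
      omega))

end

section Main

variable [HasLimitsOfShape (Discrete ℕ) A]
variable (h𝒲 : Detects 𝒲) (hE : ∀ m, FamAcyc 𝒲 (E.homology m))

include h𝒲 hE

/-- the projection from the limit is injective on `H^m` for `N ≥ 2 - m` -/
theorem mono_homologyMap_tπ (m : ℤ) (N : ℕ) (hN : 2 - m ≤ N) :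
    Mono (homologyMap (tπ E N) m) := by
  apply mono_homologyMap_of_detects_coy h𝒲 (tπ E N) (m - 1) m (by omega)
  intro W hW
  haveI := isIso_homologyMap_map_tπ 𝒲 E hE (coy W) (adapted_famAcyc 𝒲 W hW) (m - 1) N
    (by omega)
  haveI := isIso_homologyMap_map_tπ 𝒲 E hE (coy W) (adapted_famAcyc 𝒲 W hW) m N (by omega)
  exact ⟨inferInstance, inferInstance⟩

/-- the projection from the limit is an isomorphism on `H^m` for `N ≥ 2 - m` -/
theorem isIso_homologyMap_tπ (m : ℤ) (N : ℕ) (hN : 2 - m ≤ N) :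
    IsIso (homologyMap (tπ E N) m) := by
  haveI := mono_homologyMap_tπ 𝒲 E h𝒲 hE m N hN
  haveI : IsIso (homologyMap (ta E N) m) :=
    (quasiIsoAt_iff_isIso_homologyMap (ta E N) m).1 (quasiIsoAt_ta E N m (by omega))
  have hcomp : homologyMap (holimLift (tI E) (tp E) (ta E) (ta_tp E)) m ≫
      homologyMap (tπ E N) m = homologyMap (ta E N) m := by
    rw [← homologyMap_comp, holimLift_ι_π]
  haveI : IsSplitEpi (homologyMap (tπ E N) m) :=
    IsSplitEpi.mk' ⟨inv (homologyMap (ta E N) m) ≫
      homologyMap (holimLift (tI E) (tp E) (ta E) (ta_tp E)) m, by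
      rw [Category.assoc, hcomp, IsIso.inv_hom_id]⟩
  exact isIso_of_mono_of_isSplitEpi _

/-- **`E ⟶ lim I_n` is a quasi-isomorphism** -/
theorem quasiIso_holimLift_of_famAcyc :
    QuasiIso (holimLift (tI E) (tp E) (ta E) (ta_tp E)) := by
  rw [quasiIso_iff]
  intro m
  rw [quasiIsoAt_iff_isIso_homologyMap]
  let N : ℕ := (2 - m).toNat
  have hN : 2 - m ≤ N := Int.self_le_toNat _
  haveI := isIso_homologyMap_tπ 𝒲 E h𝒲 hE m N hN
  haveI : IsIso (homologyMap (ta E N) m) :=
    (quasiIsoAt_iff_isIso_homologyMap (ta E N) m).1 (quasiIsoAt_ta E N m (by omega))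
  have hcomp : homologyMap (holimLift (tI E) (tp E) (ta E) (ta_tp E)) m ≫
      homologyMap (tπ E N) m = homologyMap (ta E N) m := by
    rw [← homologyMap_comp, holimLift_ι_π]
  haveI : IsIso (homologyMap (holimLift (tI E) (tp E) (ta E) (ta_tp E)) m ≫
      homologyMap (tπ E N) m) := by
    rw [hcomp]
    infer_instance
  exact IsIso.of_isIso_comp_right _ (homologyMap (tπ E N) m)

end Main

end Groth.Agent.Lib.Helper5.QC
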