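import Mathlib
import Groth.Agent.Lib.Helper5.QC.Spalt
import Groth.Agent.Lib.Helper5.Misc.KInjAdj
import Groth.Agent.Lib.Helper5.KInj.DerivedQ

/-!
# Full faithfulness of the derived functor of an exact fully faithful left adjoint (helper5)

Let `T : B ⥤ A` be an exact functor with a right adjoint `G` such that the unit is an
isomorphism.  Assume that `A` has a detecting family `𝒲` such that `G` is adapted to the
`𝒲`-acyclic objects, and that all `T X` are `𝒲`-acyclic.  Then `T.mapDerivedCategory` is fully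
faithful, with essential image the objects whose cohomology is in the essential image of `T`.
-/

set_option autoImplicit false
open CategoryTheory Limits Opposite Abelian HomologicalComplex

namespace Groth.Agent.Lib.Helper5.QC

open Helper5.KInj Groth.Agent.Lib.Helper5

universe w v' v u' u

section General

variable {C : Type*} [Category C] {D : Type*} [Category D] [HasZeroMorphisms C]
  [HasZeroMorphisms D]

lemma homologyMap_mapNatTrans' {F G : C ⥤ D} [F.PreservesZeroMorphisms]
    [G.PreservesZeroMorphisms] (S : ShortComplex C) [S.HasHomology]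
    [(S.map F).HasHomology] [(S.map G).HasHomology]
    [F.PreservesLeftHomologyOf S] [G.PreservesLeftHomologyOf S] (τ : F ⟶ G) :
    ShortComplex.homologyMap (S.mapNatTrans τ) =
      (S.mapHomologyIso F).hom ≫ τ.app S.homology ≫ (S.mapHomologyIso G).inv :=
  (ShortComplex.LeftHomologyMapData.natTransApp S.homologyData.left τ).homologyMap_eq

lemma isIso_app_of_iso {C D : Type*} [Category C] [Category D] {F G : C ⥤ D} (τ : F ⟶ G)
    {X Y : C} (e : X ≅ Y) (h : IsIso (τ.app X)) : IsIso (τ.app Y) := by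
  have : τ.app Y = F.map e.inv ≫ τ.app X ≫ G.map e.hom := by
    rw [← τ.naturality, ← Functor.map_comp_assoc, e.inv_hom_id, F.map_id, Category.id_comp]
  rw [this]
  infer_instance

end General

variable {A : Type u} [Category.{v} A] [Abelian A]
  {B : Type u'} [Category.{v'} B] [Abelian B]

lemma preservesLeftHomologyOf_comp (G : A ⥤ B) (T : B ⥤ A) [G.PreservesZeroMorphisms]
    [T.PreservesZeroMorphisms] [PreservesFiniteLimits T] [PreservesFiniteColimits T]
    (S : ShortComplex A) [G.PreservesLeftHomologyOf S] :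
    (G ⋙ T).PreservesLeftHomologyOf S where
  isPreservedBy h :=
    { g := by
        haveI := ShortComplex.LeftHomologyData.IsPreservedBy.hg h G
        infer_instance
      f' := by
        haveI := ShortComplex.LeftHomologyData.IsPreservedBy.hf' h G
        infer_instance }

variable [HasExt.{w} A] [EnoughInjectives A] [HasLimitsOfShape (Discrete ℕ) A]
  [HasLimitsOfShape (Discrete ℕ) B] [HasExactLimitsOfShape (Discrete ℕ) B]

variable {T : B ⥤ A} {G : A ⥤ B} (adj : T ⊣ G) [T.Additive] [G.Additive]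
  [PreservesFiniteLimits T] [PreservesFiniteColimits T]

variable (𝒲 : Set A) (h𝒲 : Detects 𝒲) (hG : Adapted G (FamAcyc 𝒲))

/-- the adjunction on complexes -/
noncomputable abbrev adjC : FC T ⊣ FC G :=
  DerAdj.mapHomologicalComplexAdj adj (ComplexShape.up ℤ)

include h𝒲 hG in
/-- the counit is a quasi-isomorphism on the resolution `lim I_n` of `E` when the counit
is an isomorphism on the cohomology of `E` -/
theorem quasiIso_counit (E : CochainComplex A ℤ) (hE : ∀ m, FamAcyc 𝒲 (E.homology m))
    (hc : ∀ m, IsIso (adj.counit.app (E.homology m))) :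
    QuasiIso ((adjC adj).counit.app (holim (tI E) (tp E))) := by
  haveI : PreservesLimitsOfSize.{0, 0} G := adj.rightAdjoint_preservesLimits
  haveI : PreservesFiniteLimits G := PreservesLimitsOfSize.preservesFiniteLimits _
  rw [quasiIso_iff]
  intro m
  rw [quasiIsoAt_iff_isIso_homologyMap]
  let N : ℕ := (2 - m).toNat
  have hN : 2 - m ≤ N := Int.self_le_toNat _
  -- the three isomorphisms
  haveI h1 := isIso_homologyMap_tπ 𝒲 E h𝒲 hE m N hN
  haveI h2 : IsIso (homologyMap ((FC T).map ((FC G).map (tπ E N))) m) := by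
    haveI := isIso_homologyMap_map_tπ 𝒲 E hE G hG m N (by omega)
    haveI : QuasiIsoAt ((FC G).map (tπ E N)) m :=
      (quasiIsoAt_iff_isIso_homologyMap _ m).2 inferInstance
    exact (quasiIsoAt_iff_isIso_homologyMap _ m).1 inferInstance
  haveI h3 : IsIso (homologyMap ((adjC adj).counit.app (tI E N)) m) := by
    haveI := preservesLeftHomologyOf_tI 𝒲 E hE G hG N m
    haveI := preservesLeftHomologyOf_comp G T ((tI E N).sc m)
    have e : homologyMap ((adjC adj).counit.app (tI E N)) m =
        ShortComplex.homologyMap (((tI E N).sc m).mapNatTrans adj.counit) := rfl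
    rw [e, homologyMap_mapNatTrans']
    haveI : IsIso (homologyMap (ta E N) m) :=
      (quasiIsoAt_iff_isIso_homologyMap (ta E N) m).1 (quasiIsoAt_ta E N m (by omega))
    have hiso : IsIso (adj.counit.app ((tI E N).homology m)) :=
      isIso_app_of_iso adj.counit (asIso (homologyMap (ta E N) m)) (hc m)
    exact IsIso.comp_isIso' inferInstance (IsIso.comp_isIso' hiso inferInstance)
  have hnat := (adjC adj).counit.naturality (tπ E N)
  have hnat' : homologyMap ((FC T).map ((FC G).map (tπ E N))) m ≫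
      homologyMap ((adjC adj).counit.app (tI E N)) m =
      homologyMap ((adjC adj).counit.app (holim (tI E) (tp E))) m ≫
        homologyMap (tπ E N) m := by
    rw [← homologyMap_comp, ← homologyMap_comp]
    exact congrArg (fun f => homologyMap f m) hnat
  haveI : IsIso (homologyMap ((adjC adj).counit.app (holim (tI E) (tp E))) m ≫
      homologyMap (tπ E N) m) := by
    rw [← hnat']
    infer_instance
  exact IsIso.of_isIso_comp_right _ (homologyMap (tπ E N) m)

section Resolution

variable [IsIso adj.unit] (hT : ∀ X : B, FamAcyc 𝒲 (T.obj X))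

omit [HasExt A] [EnoughInjectives A] [HasLimitsOfShape (Discrete ℕ) A]
  [HasLimitsOfShape (Discrete ℕ) B] [HasExactLimitsOfShape (Discrete ℕ) B]
  [T.Additive] [G.Additive] [PreservesFiniteLimits T] [PreservesFiniteColimits T] in
lemma isIso_counit_app_map (X : B) : IsIso (adj.counit.app (T.obj X)) := by
  have h := adj.left_triangle_components X
  haveI : IsIso (𝟙 (T.obj X)) := inferInstance
  exact IsIso.of_isIso_fac_left h

omit [Abelian A] [Abelian B] [HasExt A] [EnoughInjectives A] [HasLimitsOfShape (Discrete ℕ) A]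
  [HasLimitsOfShape (Discrete ℕ) B] [HasExactLimitsOfShape (Discrete ℕ) B]
  [T.Additive] [G.Additive] [PreservesFiniteLimits T] [PreservesFiniteColimits T]
  [IsIso adj.unit] in
lemma map_unit_comp_counit {C D : Type*} [Category C] [Category D] {L : C ⥤ D} {R : D ⥤ C}
    (a : L ⊣ R) {X : C} {Y : D} (s : L.obj X ⟶ Y) :
    L.map (a.unit.app X ≫ R.map s) ≫ a.counit.app Y = s := by
  simp

include hT in
lemma famAcyc_homology_map (N₀ : CochainComplex B ℤ) (m : ℤ) :
    FamAcyc 𝒲 (((FC T).obj N₀).homology m) :=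
  (hT (N₀.homology m)).of_iso ((N₀.sc m).mapHomologyIso T).symm

lemma isIso_counit_homology_map (N₀ : CochainComplex B ℤ) (m : ℤ) :
    IsIso (adj.counit.app (((FC T).obj N₀).homology m)) :=
  isIso_app_of_iso adj.counit ((N₀.sc m).mapHomologyIso T).symm (isIso_counit_app_map adj _)

include h𝒲 hG hT in
/-- the resolution of `T N₀` and its properties -/
theorem exists_resolution (N₀ : CochainComplex B ℤ) :
    ∃ (I : CochainComplex A ℤ) (_ : I.IsKInjective) (s : (FC T).obj N₀ ⟶ I)
      (u : N₀ ⟶ (FC G).obj I),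
      QuasiIso s ∧ QuasiIso u ∧ QuasiIso ((adjC adj).counit.app I) ∧
        (FC T).map u ≫ (adjC adj).counit.app I = s ∧
        u = (adjC adj).unit.app N₀ ≫ (FC G).map s := by
  let E := (FC T).obj N₀
  have hE : ∀ m, FamAcyc 𝒲 (E.homology m) := famAcyc_homology_map 𝒲 hT N₀
  have hc : ∀ m, IsIso (adj.counit.app (E.homology m)) := isIso_counit_homology_map adj N₀
  let I := holim (tI E) (tp E)
  let s : E ⟶ I := holimLift (tI E) (tp E) (ta E) (ta_tp E)
  haveI hs : QuasiIso s := quasiIso_holimLift_of_famAcyc 𝒲 E h𝒲 hE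
  haveI hε : QuasiIso ((adjC adj).counit.app I) := quasiIso_counit adj 𝒲 h𝒲 hG E hE hc
  let u : N₀ ⟶ (FC G).obj I := (adjC adj).unit.app N₀ ≫ (FC G).map s
  have hu : (FC T).map u ≫ (adjC adj).counit.app I = s := map_unit_comp_counit (adjC adj) s
  haveI : QuasiIso ((FC T).map u ≫ (adjC adj).counit.app I) := by rw [hu]; exact hs
  haveI hTu : QuasiIso ((FC T).map u) := quasiIso_of_comp_right _ ((adjC adj).counit.app I)
  haveI := (adj.fullyFaithfulLOfIsIsoUnit).full
  haveI := (adj.fullyFaithfulLOfIsIsoUnit).faithful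
  have hu' : QuasiIso u := (quasiIso_map_iff_of_preservesHomology u T).1 hTu
  exact ⟨I, isKInjective_holim _ _ (exists_section_tp E), s, u, hs, hu', hε, hu, rfl⟩

end Resolution

section Derived

universe w₁ w₂

variable [HasDerivedCategory.{w₁} A] [HasDerivedCategory.{w₂} B]
variable [IsIso adj.unit] (hT : ∀ X : B, FamAcyc 𝒲 (T.obj X))

open DerivedCategory

include adj h𝒲 hG hT

/-- fullness on objects coming from complexes -/
theorem exists_map_eq (M₀ N₀ : CochainComplex B ℤ)
    (g : T.mapDerivedCategory.obj (Q.obj M₀) ⟶ T.mapDerivedCategory.obj (Q.obj N₀)) :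
    ∃ f : Q.obj M₀ ⟶ Q.obj N₀, T.mapDerivedCategory.map f = g := by
  obtain ⟨I, hI, s, u, hs, hu, hε, hus, -⟩ := exists_resolution adj 𝒲 h𝒲 hG hT N₀
  let eM := T.mapDerivedCategoryFactors.app M₀
  let eN := T.mapDerivedCategoryFactors.app N₀
  let eGI := T.mapDerivedCategoryFactors.app ((FC G).obj I)
  haveI : IsIso (Q.map s) := (DerivedCategory.isIso_Q_map_iff_quasiIso _ s).2 hs
  haveI : IsIso (Q.map u) := (DerivedCategory.isIso_Q_map_iff_quasiIso _ u).2 hu
  haveI : IsIso (Q.map ((adjC adj).counit.app I)) := (DerivedCategory.isIso_Q_map_iff_quasiIso _ _).2 hε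
  obtain ⟨g₀, hg₀⟩ := exists_Q_map_eq (X := (FC T).obj M₀) (I := I)
    (eM.inv ≫ g ≫ eN.hom ≫ Q.map s)
  let h₀ : M₀ ⟶ (FC G).obj I := (adjC adj).unit.app M₀ ≫ (FC G).map g₀
  have hh₀ : (FC T).map h₀ ≫ (adjC adj).counit.app I = g₀ :=
    map_unit_comp_counit (adjC adj) g₀
  refine ⟨Q.map h₀ ≫ inv (Q.map u), ?_⟩
  have natu : T.mapDerivedCategory.map (Q.map u) ≫ eGI.hom =
      eN.hom ≫ Q.map ((FC T).map u) := T.mapDerivedCategoryFactors.hom.naturality u
  have nath : T.mapDerivedCategory.map (Q.map h₀) ≫ eGI.hom =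
      eM.hom ≫ Q.map ((FC T).map h₀) := T.mapDerivedCategoryFactors.hom.naturality h₀
  have hQs : Q.map s = Q.map ((FC T).map u) ≫ Q.map ((adjC adj).counit.app I) := by
    rw [← Functor.map_comp, hus]
  have hinv : T.mapDerivedCategory.map (inv (Q.map u)) ≫ T.mapDerivedCategory.map (Q.map u) =
      𝟙 _ := by
    rw [← Functor.map_comp, IsIso.inv_hom_id, CategoryTheory.Functor.map_id]
  have step1 : T.mapDerivedCategory.map (Q.map h₀ ≫ inv (Q.map u)) ≫ eN.hom ≫
      Q.map ((FC T).map u) = eM.hom ≫ Q.map ((FC T).map h₀) := by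
    rw [← natu, Functor.map_comp, Category.assoc, reassoc_of% hinv, nath]
  have key : T.mapDerivedCategory.map (Q.map h₀ ≫ inv (Q.map u)) ≫ eN.hom ≫ Q.map s =
      g ≫ eN.hom ≫ Q.map s :=
    calc T.mapDerivedCategory.map (Q.map h₀ ≫ inv (Q.map u)) ≫ eN.hom ≫ Q.map s
        = (T.mapDerivedCategory.map (Q.map h₀ ≫ inv (Q.map u)) ≫ eN.hom ≫
            Q.map ((FC T).map u)) ≫ Q.map ((adjC adj).counit.app I) := by
          rw [hQs]; simp only [Category.assoc]
      _ = (eM.hom ≫ Q.map ((FC T).map h₀)) ≫ Q.map ((adjC adj).counit.app I) := by rw [step1]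
      _ = eM.hom ≫ Q.map g₀ := by rw [Category.assoc, ← Functor.map_comp, hh₀]
      _ = g ≫ eN.hom ≫ Q.map s := by rw [hg₀, Iso.hom_inv_id_assoc]
  exact (cancel_mono (eN.hom ≫ Q.map s)).1 (by simpa only [Category.assoc] using key)

/-- faithfulness on objects coming from complexes -/
theorem eq_zero_of_map_eq_zero (M₀ N₀ : CochainComplex B ℤ) (f : Q.obj M₀ ⟶ Q.obj N₀)
    (hf : T.mapDerivedCategory.map f = 0) : f = 0 := by
  obtain ⟨I, hI, s, u, hs, hu, hε, hus, hudef⟩ := exists_resolution adj 𝒲 h𝒲 hG hT N₀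
  haveI : IsIso (Q.map u) := (DerivedCategory.isIso_Q_map_iff_quasiIso _ u).2 hu
  obtain ⟨M₁, σ, hσ, f₀, rfl⟩ := right_fac f
  let eM₁ := T.mapDerivedCategoryFactors.app M₁
  let eN := T.mapDerivedCategoryFactors.app N₀
  have h1 : T.mapDerivedCategory.map (Q.map f₀) = 0 := by
    have e : Q.map f₀ = Q.map σ ≫ (inv (Q.map σ) ≫ Q.map f₀) := by
      rw [IsIso.hom_inv_id_assoc]
    rw [e, Functor.map_comp, hf, comp_zero]
  have nat : T.mapDerivedCategory.map (Q.map f₀) ≫ eN.hom =
      eM₁.hom ≫ Q.map ((FC T).map f₀) := T.mapDerivedCategoryFactors.hom.naturality f₀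
  have h2 : Q.map ((FC T).map f₀) = 0 := by
    rw [h1, zero_comp] at nat
    exact (cancel_epi eM₁.hom).1 (by rw [← nat, comp_zero])
  have h3 : Q.map ((FC T).map f₀ ≫ s) = Q.map (0 : (FC T).obj M₁ ⟶ I) := by
    rw [Functor.map_comp, h2, zero_comp, Functor.map_zero]
  obtain ⟨H⟩ := nonempty_homotopy_of_Q_map_eq h3
  have H' : Homotopy ((adjC adj).unit.app M₁ ≫ (FC G).map ((FC T).map f₀ ≫ s))
      ((adjC adj).unit.app M₁ ≫ (FC G).map 0) := (G.mapHomotopy H).compLeft _
  have e1 : (adjC adj).unit.app M₁ ≫ (FC G).map ((FC T).map f₀ ≫ s) = f₀ ≫ u := by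
    rw [hudef, Functor.map_comp, ← Category.assoc, ← Category.assoc]
    congr 1
    exact ((adjC adj).unit.naturality f₀).symm
  have h4 : Q.map (f₀ ≫ u) = 0 := by
    rw [← e1, DerivedCategory.Q_map_eq_of_homotopy _ H', Functor.map_zero, comp_zero, Functor.map_zero]
  have h5 : Q.map f₀ = 0 := by
    rw [Functor.map_comp] at h4
    exact (cancel_mono (Q.map u)).1 (by rw [h4, zero_comp])
  rw [h5, comp_zero]

/-- **fullness** -/
theorem full_mapDerivedCategory : T.mapDerivedCategory.Full where
  map_surjective {M N} g := by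
    let eM := Q.objObjPreimageIso M
    let eN := Q.objObjPreimageIso N
    obtain ⟨f, hf⟩ := exists_map_eq adj 𝒲 h𝒲 hG hT (Q.objPreimage M) (Q.objPreimage N)
      (T.mapDerivedCategory.map eM.hom ≫ g ≫ T.mapDerivedCategory.map eN.inv)
    refine ⟨eM.inv ≫ f ≫ eN.hom, ?_⟩
    rw [Functor.map_comp, Functor.map_comp, hf, Category.assoc, Category.assoc,
      ← Functor.map_comp, eN.inv_hom_id, CategoryTheory.Functor.map_id, Category.comp_id,
      ← Functor.map_comp_assoc, eM.inv_hom_id, CategoryTheory.Functor.map_id, Category.id_comp]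

/-- **faithfulness** -/
theorem faithful_mapDerivedCategory : T.mapDerivedCategory.Faithful where
  map_injective {M N} f f' h := by
    let eM := Q.objObjPreimageIso M
    let eN := Q.objObjPreimageIso N
    have h0 : eM.hom ≫ (f - f') ≫ eN.inv = 0 := by
      apply eq_zero_of_map_eq_zero adj 𝒲 h𝒲 hG hT (Q.objPreimage M) (Q.objPreimage N)
      rw [Functor.map_comp, Functor.map_comp, Functor.map_sub, h, sub_self, zero_comp, comp_zero]
    have h1 : f - f' = 0 := by
      have := congrArg (fun x => eM.inv ≫ x ≫ eN.hom) h0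
      simpa using this
    exact sub_eq_zero.1 h1

/-- **the essential image** -/
theorem essImage_mapDerivedCategory_iff (K : DerivedCategory A) :
    (∃ M : DerivedCategory B, Nonempty (T.mapDerivedCategory.obj M ≅ K)) ↔
      ∀ i : ℤ, T.essImage ((homologyFunctor A i).obj K) := by
  constructor
  · rintro ⟨M, ⟨e⟩⟩ i
    let M₀ := Q.objPreimage M
    let eM : Q.obj M₀ ≅ M := Q.objObjPreimageIso M
    let iso : T.obj (M₀.homology i) ≅ (homologyFunctor A i).obj K :=
      ((M₀.sc i).mapHomologyIso T).symm ≪≫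
        ((homologyFunctorFactors A i).app ((FC T).obj M₀)).symm ≪≫
        (homologyFunctor A i).mapIso ((T.mapDerivedCategoryFactors.app M₀).symm ≪≫
          T.mapDerivedCategory.mapIso eM ≪≫ e)
    exact ⟨_, ⟨iso⟩⟩
  · intro h
    let E := Q.objPreimage K
    let eK : Q.obj E ≅ K := Q.objObjPreimageIso K
    have hX : ∀ m : ℤ, ∃ X : B, Nonempty (T.obj X ≅ E.homology m) := by
      intro m
      obtain ⟨X, ⟨e⟩⟩ := h m
      exact ⟨X, ⟨e ≪≫ (homologyFunctor A m).mapIso eK.symm ≪≫
        (homologyFunctorFactors A m).app E⟩⟩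
    have hE : ∀ m, FamAcyc 𝒲 (E.homology m) := by
      intro m
      obtain ⟨X, ⟨e⟩⟩ := hX m
      exact (hT X).of_iso e
    have hc : ∀ m, IsIso (adj.counit.app (E.homology m)) := by
      intro m
      obtain ⟨X, ⟨e⟩⟩ := hX m
      exact isIso_app_of_iso adj.counit e (isIso_counit_app_map adj X)
    let I := holim (tI E) (tp E)
    let s : E ⟶ I := holimLift (tI E) (tp E) (ta E) (ta_tp E)
    haveI hs : QuasiIso s := quasiIso_holimLift_of_famAcyc 𝒲 E h𝒲 hE
    haveI hε : QuasiIso ((adjC adj).counit.app I) := quasiIso_counit adj 𝒲 h𝒲 hG E hE hc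
    haveI : IsIso (Q.map s) := (DerivedCategory.isIso_Q_map_iff_quasiIso _ s).2 hs
    haveI : IsIso (Q.map ((adjC adj).counit.app I)) := (DerivedCategory.isIso_Q_map_iff_quasiIso _ _).2 hε
    exact ⟨Q.obj ((FC G).obj I), ⟨T.mapDerivedCategoryFactors.app ((FC G).obj I) ≪≫
      asIso (Q.map ((adjC adj).counit.app I)) ≪≫ (asIso (Q.map s)).symm ≪≫ eK⟩⟩

end Derived

end Groth.Agent.Lib.Helper5.QC
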