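import Mathlib
import Groth.Prelude.Def_DCoh2
import Groth.Agent.Lib.Helper5.QC.DerFF
import Groth.Agent.Lib.Helper5.Misc.ExtFreeHK
import Groth.Agent.Lib.Helper5.Misc.FreeSec
import Groth.Agent.Lib.Helper1.QcAcyc
import Groth.Agent.S0485

/-!
# The free modules on affine opens: a detecting family adapted to quasi-coherent modules (helper5)
-/

set_option autoImplicit false
universe u
open CategoryTheory CategoryTheory.Limits Opposite TopologicalSpace AlgebraicGeometry Abelian

namespace Groth.Agent.Lib.Helper5.QC

open Groth.Agent.Lib.Helper5.Misc Groth.Agent.Helper3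

section Top

variable {X : TopCat.{u}}

/-- representable presheaves on the site of opens are sheaves -/
lemma isSheaf_yoneda_opens (U : Opens X) :
    Presheaf.IsSheaf (Opens.grothendieckTopology X) (yoneda.obj U) := by
  rw [isSheaf_iff_isSheaf_of_type]
  intro V S hS x hx
  have hVU : V ≤ U := by
    intro p hp
    obtain ⟨W, f, hf, hpW⟩ := hS p hp
    exact leOfHom (x f hf) hpW
  refine ⟨homOfLE hVU, fun W f hf => Subsingleton.elim (α := (W ⟶ U)) _ _,
    fun t _ => Subsingleton.elim (α := (V ⟶ U)) _ _⟩

/-- the representable sheaf of an open -/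
def KU (U : Opens X) : Sheaf (Opens.grothendieckTopology X) (Type u) :=
  ⟨yoneda.obj U, isSheaf_yoneda_opens U⟩

end Top

variable {X : Scheme.{u}}

/-- the free module on the representable sheaf of an open `U` (extension by zero of `𝒪_U`) -/
noncomputable def WU (U : X.Opens) : X.Modules :=
  ExtFreeHK.freeSh (R := X.ringCatSheaf) (KU U)

/-- morphisms out of `WU U` are sections over `U` -/
noncomputable def secW (U : X.Opens) (M : X.Modules) :
    (WU U ⟶ M) ≃ (M.presheaf.obj (op U) : Type u) :=
  (ExtFreeHK.φ (R := X.ringCatSheaf) (KU U) M).toEquiv.trans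
    (FreeSec.secEquiv (Opens.grothendieckTopology X) U
      ((SheafOfModules.toSheaf X.ringCatSheaf).obj M))

lemma secW_comp (U : X.Opens) {M N : X.Modules} (g : WU U ⟶ M) (f : M ⟶ N) :
    secW U N (g ≫ f) = f.app U (secW U M g) := by
  dsimp only [secW, Equiv.trans_apply]
  have h1 := ExtFreeHK.φ_naturality (R := X.ringCatSheaf) (KU U) f g
  have h2 := FreeSec.secEquiv_comp (Opens.grothendieckTopology X)
    (ExtFreeHK.φ (R := X.ringCatSheaf) (KU U) M g) ((SheafOfModules.toSheaf X.ringCatSheaf).map f)
  exact (congrArg _ h1).trans h2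

lemma secW_zero (U : X.Opens) (M N : X.Modules) (g : WU U ⟶ M) :
    secW U N (g ≫ (0 : M ⟶ N)) = 0 := by
  rw [secW_comp]
  rfl

/-- a morphism of modules vanishing on sections over affine opens is zero -/
theorem hom_eq_zero_of_affine {M N : X.Modules} (f : M ⟶ N)
    (h : ∀ U : X.Opens, IsAffineOpen U → ∀ s : M.presheaf.obj (op U), f.app U s = 0) :
    f = 0 := by
  apply Scheme.Modules.hom_ext
  intro V
  ext m
  show f.app V m = 0
  refine TopCat.Presheaf.IsSheaf.section_ext N.isSheaf (U := op V) (s := f.app V m) (t := 0) ?_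
  intro y hy
  obtain ⟨U, hU, hyU, hUV⟩ := Opens.isBasis_iff_nbhd.1 X.isBasis_affineOpens hy
  refine ⟨U, hUV, hyU, ?_⟩
  have hnat := congr($(f.mapPresheaf.naturality (homOfLE hUV).op).hom m)
  rw [map_zero]
  exact hnat.symm.trans (h U hU _)

/-- the family of free modules on affine opens -/
def testFam (X : Scheme.{u}) : Set X.Modules := {W | ∃ U : X.Opens, IsAffineOpen U ∧ W = WU U}

/-- the free modules on affine opens detect the vanishing of morphisms -/
theorem detects_testFam : Detects (testFam X) := by
  intro M N f hf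
  apply hom_eq_zero_of_affine
  intro U hU s
  have h1 := hf (WU U) ⟨U, hU, rfl⟩ ((secW U M).symm s)
  have h2 := secW_comp U ((secW U M).symm s) f
  rw [Equiv.apply_symm_apply] at h2
  rw [← h2, h1]
  have h3 := secW_zero U M N ((secW U M).symm s)
  rwa [comp_zero] at h3

variable [HasExt.{u} X.Modules]

/-- quasi-coherent modules are acyclic for the free modules on affine opens -/
theorem famAcyc_of_isQuasicoherent (M : X.Modules) [M.IsQuasicoherent] :
    FamAcyc (testFam X) M := by
  rintro W ⟨U, hU, rfl⟩ p
  obtain ⟨e⟩ := ExtFreeHK.nonempty_ext_addEquiv_HK (R := X.ringCatSheaf) (KU U) M (p + 1)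
  haveI : Subsingleton (CohCx.HK (KU U) ((SheafOfModules.toSheaf X.ringCatSheaf).obj M) (p + 1)) :=
    Groth.Agent.Helper1.QcAcyc.subsingleton_HU M U hU p
  exact e.toEquiv.subsingleton

end Groth.Agent.Lib.Helper5.QC
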