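import Mathlib
import Groth.Prelude.Def_DCoh2
import Groth.Agent.Lib.Helper5.QC.AffAcyc

/-!
# `D(R) ≃ D_QCoh(Spec R)` (helper5)
-/

set_option autoImplicit false
universe u
open CategoryTheory CategoryTheory.Limits Opposite TopologicalSpace AlgebraicGeometry Abelian

attribute [local instance] HasDerivedCategory.standard

namespace Groth.Agent.Lib.Helper5.QC

variable (R : CommRingCat.{u})

/-- global sections are adapted to the modules acyclic for the free modules on affine opens -/
theorem adapted_moduleSpecΓFunctor [HasExt.{u} (Spec (CommRingCat.of R)).Modules] :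
    Adapted (moduleSpecΓFunctor (R := R)) (FamAcyc (testFam (Spec (CommRingCat.of R)))) where
  zero Z hZ := fun W _ => extAcyc_of_isZero W Z hZ
  X₃ S hS h1 h2 := fun W hW => (adapted_famAcyc _ W hW).X₃ S hS h1 h2 W hW
  X₂ S hS h1 h3 := fun W hW => (adapted_famAcyc _ W hW).X₂ S hS h1 h3 W hW
  epi S hS h1 := by
    rw [ModuleCat.epi_iff_surjective]
    intro t
    have hW : WU (⊤ : (Spec (CommRingCat.of R)).Opens) ∈ testFam (Spec (CommRingCat.of R)) :=
      ⟨⊤, isAffineOpen_top _, rfl⟩
    have hepi := (adapted_famAcyc _ _ hW).epi S hS h1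
    rw [AddCommGrpCat.epi_iff_surjective] at hepi
    obtain ⟨g₂, hg₂⟩ := hepi ((secW ⊤ S.X₃).symm t)
    refine ⟨secW ⊤ S.X₂ g₂, ?_⟩
    have h2 := secW_comp ⊤ g₂ S.g
    have hg₂' : g₂ ≫ S.g = (secW ⊤ S.X₃).symm t := hg₂
    rw [hg₂', Equiv.apply_symm_apply] at h2
    exact h2.symm

instance : (moduleSpecΓFunctor (R := R)).Additive :=
  (tilde.adjunction (R := R)).right_adjoint_additive

/-- **`D(R) ≃ D_QCoh(Spec R)`** -/
theorem tildeD_main [PreservesFiniteLimits (tilde.functor R)] :
    (DCoh.tildeD R).Full ∧ (DCoh.tildeD R).Faithful ∧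
    ∀ K : DCoh.D (Spec (CommRingCat.of R)),
      DCoh.IsQCohD K ↔ ∃ M, Nonempty ((DCoh.tildeD R).obj M ≅ K) := by
  haveI : EnoughInjectives (Spec (CommRingCat.of R)).Modules :=
    Groth.Agent.S0485.result _ (Spec (CommRingCat.of R)).ringCatSheaf
  haveI : HasExt.{u} (Spec (CommRingCat.of R)).Modules := hasExt_of_enoughInjectives _
  have h𝒲 := detects_testFam (X := Spec (CommRingCat.of R))
  have hG := adapted_moduleSpecΓFunctor R
  have hT : ∀ M : ModuleCat.{u} R,
      FamAcyc (testFam (Spec (CommRingCat.of R))) ((tilde.functor R).obj M) :=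
    fun M => famAcyc_of_isQuasicoherent _
  refine ⟨full_mapDerivedCategory (tilde.adjunction (R := R)) _ h𝒲 hG hT,
    faithful_mapDerivedCategory (tilde.adjunction (R := R)) _ h𝒲 hG hT, fun K => ?_⟩
  rw [essImage_mapDerivedCategory_iff (tilde.adjunction (R := R)) _ h𝒲 hG hT K, essImage_tilde]
  rfl

end Groth.Agent.Lib.Helper5.QC
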