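import Mathlib

/-!
# The functor `M ↦ M~` is exact (helper5)
-/

set_option autoImplicit false
universe u
open CategoryTheory CategoryTheory.Limits Opposite TopologicalSpace AlgebraicGeometry

namespace Groth.Agent.Lib.Helper5.QC

variable {R : CommRingCat.{u}}

set_option backward.isDefEq.respectTransparency.types false in
/-- `M ↦ M~` preserves monomorphisms -/
theorem mono_tilde_map {M N : ModuleCat.{u} R} (f : M ⟶ N) [Mono f] : Mono (tilde.map f) := by
  have hf : Function.Injective f.hom := (ModuleCat.mono_iff_injective f).1 inferInstance
  apply (Scheme.Modules.toPresheaf (Spec R)).mono_of_mono_map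
  haveI : ∀ U, Mono (((Scheme.Modules.toPresheaf (Spec R)).map (tilde.map f)).app U) := by
    intro U
    rw [AddCommGrpCat.mono_iff_injective]
    intro s t hst
    apply Subtype.ext
    funext y
    have := congrFun (congrArg Subtype.val hst) y
    exact IsLocalizedModule.map_injective y.1.asIdeal.primeCompl
      (LocalizedModule.mkLinearMap y.1.asIdeal.primeCompl M)
      (LocalizedModule.mkLinearMap y.1.asIdeal.primeCompl N) f.hom hf this
  exact NatTrans.mono_of_mono_app _

instance : (tilde.functor R).PreservesMonomorphisms where
  preserves f _ := mono_tilde_map f

instance preservesHomology_tilde : (tilde.functor R).PreservesHomology := by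
  simp only [(tilde.functor R).exact_tfae.out 2 0]
  intro S h
  have key := (Functor.preservesFiniteColimits_tfae (tilde.functor R)).out 3 0
  have hpres : PreservesFiniteColimits (tilde.functor R) := inferInstance
  have h1 := key.mp hpres S h
  refine ShortComplex.ShortExact.mk' h1.left ?_ h1.right
  have := h.2
  exact Functor.map_mono (tilde.functor R) _

/-- **`M ↦ M~` is exact** -/
instance preservesFiniteLimits_tilde : PreservesFiniteLimits (tilde.functor R) :=
  (tilde.functor R).preservesFiniteLimits_of_preservesHomology

end Groth.Agent.Lib.Helper5.QC
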