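import Mathlib
import Groth.Prelude.Def_DCoh2
import Groth.Prelude.Def_DDual2
import Groth.Agent.Lib.Helper5.QC.SpecMain
import Groth.Agent.Lib.Helper5.QC.TildeExact
import Groth.Agent.Lib.Helper5.Stalk.LpullComp
import Groth.Agent.Lib.Helper5.Stalk.FlatPull
import Groth.Agent.Lib.Helper5.Perf.TildeLBC
import Groth.Agent.Lib.Helper5.DTenLib.Base
import Groth.Agent.Lib.Helper1.QCohLib
import Groth.Agent.Lib.Helper1.QcAbel

/-!
# Derived pullback preserves `D_QCoh` (helper5)
-/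

set_option autoImplicit false
universe u
open CategoryTheory CategoryTheory.Limits Opposite TopologicalSpace AlgebraicGeometry

attribute [local instance] HasDerivedCategory.standard

namespace Groth.Agent.Lib.Helper5.QC

open Groth.Agent.Lib.Helper5.LpullLib Groth.Agent.Lib.Helper5.StalkAdj Groth.Agent.Helper1
  Groth.Agent.Lib.Helper5.KProj.DerHo

variable {X Y V : Scheme.{u}}

/-- `D_QCoh` is closed under isomorphisms -/
theorem isQCohD_of_iso {K L : DCoh.D X} (e : K ≅ L) (h : DCoh.IsQCohD K) : DCoh.IsQCohD L := by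
  intro i
  haveI : (DCoh.HD K i).IsQuasicoherent := h i
  exact QcAbel.isQuasicoherent_of_iso ((DerivedCategory.homologyFunctor X.Modules i).mapIso e)

/-- congruence for `Lf^*` -/
noncomputable def lpullCongr {f f' : Y ⟶ X} (h : f = f') [DCoh.HasLpull f] [DCoh.HasLpull f'] :
    DCoh.Lpull f ≅ DCoh.Lpull f' := by
  subst h
  exact Iso.refl _

/-- for a flat morphism, `La^*` is computed termwise on all complexes -/
theorem nonempty_lpullObjIso_of_flat (a : V ⟶ Y) [Flat a] [DCoh.HasLpull a]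
    (E : CochainComplex Y.Modules ℤ) :
    Nonempty ((DCoh.Lpull a).obj (DCoh.toD Y E) ≅
      DCoh.toD V (((Scheme.Modules.pullback a).mapHomologicalComplex (ComplexShape.up ℤ)).obj E)) := by
  obtain ⟨P, p, hP, hp⟩ := (adaptedCx a).res E
  haveI := hp
  haveI : IsIso (DerivedCategory.Q.map p) :=
    (DerivedCategory.isIso_Q_map_iff_quasiIso _ p).2 hp
  haveI : QuasiIso (((Scheme.Modules.pullback a).mapHomologicalComplex (ComplexShape.up ℤ)).map p) :=
    inferInstance
  haveI : IsIso (DerivedCategory.Q.map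
      (((Scheme.Modules.pullback a).mapHomologicalComplex (ComplexShape.up ℤ)).map p)) :=
    (DerivedCategory.isIso_Q_map_iff_quasiIso _ _).2 inferInstance
  exact ⟨(DCoh.Lpull a).mapIso (asIso (DerivedCategory.Q.map p)).symm ≪≫ lpullObjIso a P hP ≪≫
    asIso (DerivedCategory.Q.map
      (((Scheme.Modules.pullback a).mapHomologicalComplex (ComplexShape.up ℤ)).map p))⟩

/-- for a flat morphism, `La^*` commutes with cohomology sheaves -/
theorem nonempty_HD_lpull_iso_of_flat (a : V ⟶ Y) [Flat a] [DCoh.HasLpull a] (L : DCoh.D Y)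
    (i : ℤ) :
    Nonempty (DCoh.HD ((DCoh.Lpull a).obj L) i ≅
      (Scheme.Modules.pullback a).obj (DCoh.HD L i)) := by
  let E : CochainComplex Y.Modules ℤ := DerivedCategory.Q.objPreimage L
  let eL : DerivedCategory.Q.obj E ≅ L := DerivedCategory.Q.objObjPreimageIso L
  obtain ⟨e1⟩ := nonempty_lpullObjIso_of_flat a E
  exact ⟨(DerivedCategory.homologyFunctor V.Modules i).mapIso
      ((DCoh.Lpull a).mapIso eL.symm ≪≫ e1) ≪≫
    (DerivedCategory.homologyFunctorFactors V.Modules i).app _ ≪≫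
    (E.sc i).mapHomologyIso (Scheme.Modules.pullback a) ≪≫
    (Scheme.Modules.pullback a).mapIso
      (((DerivedCategory.homologyFunctorFactors Y.Modules i).app E).symm ≪≫
        (DerivedCategory.homologyFunctor Y.Modules i).mapIso eL)⟩

/-- restriction of the cohomology of `Lf^* K` to an affine chart mapping into an affine chart -/
theorem isQuasicoherent_restrict_HD_Lpull (f : Y ⟶ X) [DCoh.HasLpull f] (K : DCoh.D X)
    (hK : DCoh.IsQCohD K) (i : ℤ) {A B : CommRingCat.{u}} (a : Spec B ⟶ Y) [IsOpenImmersion a]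
    (b : Spec A ⟶ X) [IsOpenImmersion b] (φ : A ⟶ B) (h : Spec.map φ ≫ b = a ≫ f) :
    ((DCoh.HD ((DCoh.Lpull f).obj K) i).restrict a).IsQuasicoherent := by
  haveI : DCoh.HasLpull a := hasLpull a
  haveI : DCoh.HasLpull b := hasLpull b
  haveI : DCoh.HasLpull (Spec.map φ) := hasLpull _
  haveI : DCoh.HasLpull (a ≫ f) := hasLpull _
  haveI : DCoh.HasLpull (Spec.map φ ≫ b) := hasLpull _
  -- step A
  let K' : DCoh.D (Spec A) := (DCoh.Lpull b).obj K
  have hK' : DCoh.IsQCohD K' := by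
    intro j
    obtain ⟨e⟩ := nonempty_HD_lpull_iso_of_flat b K j
    haveI : (DCoh.HD K j).IsQuasicoherent := hK j
    haveI : ((Scheme.Modules.restrictFunctor b).obj (DCoh.HD K j)).IsQuasicoherent := inferInstance
    exact QcAbel.isQuasicoherent_of_iso
      (((Scheme.Modules.restrictFunctorIsoPullback b).app (DCoh.HD K j)) ≪≫ e.symm)
  -- step B
  obtain ⟨N, ⟨eN⟩⟩ := ((tildeD_main A).2.2 K').1 hK'
  -- step C
  obtain ⟨eL⟩ := Groth.Agent.Lib.Helper5.TildeCell.lbc_tilde_iso φ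
  have hC : DCoh.IsQCohD ((DCoh.Lpull (Spec.map φ)).obj K') :=
    ((tildeD_main B).2.2 _).2 ⟨(DRing.LBaseChange φ.hom).obj N,
      ⟨eL.app N ≪≫ (DCoh.Lpull (Spec.map φ)).mapIso eN⟩⟩
  -- step D
  obtain ⟨c1⟩ := lpull_comp (Spec.map φ) b
  obtain ⟨c2⟩ := lpull_comp a f
  have hD : DCoh.IsQCohD ((DCoh.Lpull a).obj ((DCoh.Lpull f).obj K)) :=
    isQCohD_of_iso (c1.app K ≪≫ (lpullCongr h).app K ≪≫ (c2.app K).symm) hC
  -- step E
  obtain ⟨e⟩ := nonempty_HD_lpull_iso_of_flat a ((DCoh.Lpull f).obj K) i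
  haveI : (DCoh.HD ((DCoh.Lpull a).obj ((DCoh.Lpull f).obj K)) i).IsQuasicoherent := hD i
  exact QcAbel.isQuasicoherent_of_iso
    (e ≪≫ ((Scheme.Modules.restrictFunctorIsoPullback a).app _).symm)

/-- **`Lf^*` preserves `D_QCoh`** -/
theorem isQCohD_Lpull (f : Y ⟶ X) [DCoh.HasLpull f] (K : DCoh.D X) (hK : DCoh.IsQCohD K) :
    DCoh.IsQCohD ((DCoh.Lpull f).obj K) := by
  intro i
  have hch : ∀ y : Y, ∃ (U : X.Opens) (_ : IsAffineOpen U) (W : Y.Opens) (_ : IsAffineOpen W),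
      y ∈ W ∧ W ≤ f ⁻¹ᵁ U := by
    intro y
    obtain ⟨_, ⟨U, hU : IsAffineOpen U, rfl⟩, hyU, -⟩ :=
      X.isBasis_affineOpens.exists_subset_of_mem_open (Set.mem_univ (f y)) isOpen_univ
    obtain ⟨_, ⟨W, hW : IsAffineOpen W, rfl⟩, hyW, hWU⟩ :=
      Y.isBasis_affineOpens.exists_subset_of_mem_open (show y ∈ ((f ⁻¹ᵁ U : Y.Opens) : Set Y) from hyU)
        (f ⁻¹ᵁ U).2
    exact ⟨U, hU, W, hW, hyW, hWU⟩
  choose U hU W hW hyW hWU using hch
  refine QCohLib.isQuasicoherent_of_affine_charts _ (I := Y) (fun y => Γ(Y, W y))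
    (fun y => (hW y).fromSpec) ?_ ?_
  · refine top_le_iff.mp fun y _ => Opens.mem_iSup.mpr ⟨y, ?_⟩
    rw [(hW y).opensRange_fromSpec]
    exact hyW y
  · intro y
    haveI := isQuasicoherent_restrict_HD_Lpull f K hK i (hW y).fromSpec (hU y).fromSpec
      (f.appLE (U y) (W y) (hWU y))
      (IsAffineOpen.SpecMap_appLE_fromSpec f (hU y) (hW y) (hWU y))
    infer_instance

end Groth.Agent.Lib.Helper5.QC
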