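import Mathlib
import Groth.Prelude.Def_DCoh2
import Groth.Agent.Lib.Helper1.QcExt
import Groth.Agent.Lib.Helper1.QcAbel
import Groth.Agent.Lib.Helper5.QC.LpullQC

/-!
# `D_QCoh` is a triangulated subcategory (helper5)

two-out-of-three for distinguished triangles, shifts and biproducts.
-/

set_option autoImplicit false
universe u v w
open CategoryTheory CategoryTheory.Limits Opposite TopologicalSpace AlgebraicGeometry
open CategoryTheory.Pretriangulated

attribute [local instance] HasDerivedCategory.standard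

namespace Groth.Agent.Lib.Helper5.QC

open Groth.Agent.Helper1

section Abstract

variable {A : Type u} [Category.{v} A] [Abelian A]

/-- in an exact sequence `X₁ → X₂ → X₃ → X₄`, `coker f₁ ≅ ker f₃` -/
theorem isIso_cokerToKer {X₁ X₂ X₃ X₄ : A} (f₁ : X₁ ⟶ X₂) (f₂ : X₂ ⟶ X₃) (f₃ : X₃ ⟶ X₄)
    (w₁ : f₁ ≫ f₂ = 0) (w₂ : f₂ ≫ f₃ = 0)
    (h₁ : (ShortComplex.mk f₁ f₂ w₁).Exact) (h₂ : (ShortComplex.mk f₂ f₃ w₂).Exact) :
    IsIso (kernel.lift f₃ (cokernel.desc f₁ f₂ w₁) (by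
      rw [← cancel_epi (cokernel.π f₁), cokernel.π_desc_assoc, w₂, comp_zero])) := by
  set φ := kernel.lift f₃ (cokernel.desc f₁ f₂ w₁) (by
      rw [← cancel_epi (cokernel.π f₁), cokernel.π_desc_assoc, w₂, comp_zero]) with hφ
  have hm : Mono (cokernel.desc f₁ f₂ w₁) := h₁.mono_cokernelDesc
  have he : Epi (kernel.lift f₃ f₂ w₂) := h₂.epi_kernelLift
  have h1 : φ ≫ kernel.ι f₃ = cokernel.desc f₁ f₂ w₁ := kernel.lift_ι _ _ _
  have h2 : cokernel.π f₁ ≫ φ = kernel.lift f₃ f₂ w₂ := by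
    rw [← cancel_mono (kernel.ι f₃), Category.assoc, h1, cokernel.π_desc, kernel.lift_ι]
  have : Mono φ := by
    have : Mono (φ ≫ kernel.ι f₃) := by rw [h1]; exact hm
    exact mono_of_mono φ (kernel.ι f₃)
  have : Epi φ := by
    have : Epi (cokernel.π f₁ ≫ φ) := by rw [h2]; exact he
    exact epi_of_epi (cokernel.π f₁) φ
  exact isIso_of_mono_of_epi φ

/-- the short exact sequence `0 → ker f₃ → X₃ → ker f₄ → 0` of an exact `X₃ → X₄ → X₅` -/
theorem shortExact_kerKer {X₃ X₄ X₅ : A} (f₃ : X₃ ⟶ X₄) (f₄ : X₄ ⟶ X₅)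
    (w₃ : f₃ ≫ f₄ = 0) (h₃ : (ShortComplex.mk f₃ f₄ w₃).Exact) :
    (ShortComplex.mk (kernel.ι f₃) (kernel.lift f₄ f₃ w₃) (by
      rw [← cancel_mono (kernel.ι f₄), Category.assoc, kernel.lift_ι, kernel.condition,
        zero_comp])).ShortExact := by
  let S : ShortComplex A := ShortComplex.mk (kernel.ι f₃) (kernel.lift f₄ f₃ w₃) (by
      rw [← cancel_mono (kernel.ι f₄), Category.assoc, kernel.lift_ι, kernel.condition,
        zero_comp])
  let S' : ShortComplex A := ShortComplex.mk (kernel.ι f₃) f₃ (kernel.condition f₃)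
  have hS' : S'.Exact := ShortComplex.exact_of_f_is_kernel _ (kernelIsKernel f₃)
  let α : S ⟶ S' := { τ₁ := 𝟙 _, τ₂ := 𝟙 _, τ₃ := kernel.ι f₄
                      comm₁₂ := by simp [S, S']
                      comm₂₃ := by simp [S, S'] }
  have : Epi α.τ₁ := inferInstanceAs (Epi (𝟙 _))
  have : IsIso α.τ₂ := inferInstanceAs (IsIso (𝟙 _))
  have : Mono α.τ₃ := inferInstanceAs (Mono (kernel.ι f₄))
  have hS : S.Exact := (ShortComplex.exact_iff_of_epi_of_isIso_of_mono α).2 hS'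
  have : Mono S.f := inferInstanceAs (Mono (kernel.ι f₃))
  have : Epi S.g := h₃.epi_kernelLift
  exact { exact := hS }

end Abstract

section FiveTerm

variable {X : Scheme.{u}}

/-- the middle term of a five-term exact sequence of modules with quasi-coherent outer terms is
quasi-coherent -/
theorem isQuasicoherent_five {X₁ X₂ X₃ X₄ X₅ : X.Modules}
    (f₁ : X₁ ⟶ X₂) (f₂ : X₂ ⟶ X₃) (f₃ : X₃ ⟶ X₄) (f₄ : X₄ ⟶ X₅)
    (w₁ : f₁ ≫ f₂ = 0) (w₂ : f₂ ≫ f₃ = 0) (w₃ : f₃ ≫ f₄ = 0)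
    (h₁ : (ShortComplex.mk f₁ f₂ w₁).Exact) (h₂ : (ShortComplex.mk f₂ f₃ w₂).Exact)
    (h₃ : (ShortComplex.mk f₃ f₄ w₃).Exact)
    [X₁.IsQuasicoherent] [X₂.IsQuasicoherent] [X₄.IsQuasicoherent] [X₅.IsQuasicoherent] :
    X₃.IsQuasicoherent := by
  have hc : (cokernel f₁).IsQuasicoherent := QcAbel.isQuasicoherent_cokernel f₁
  have hk : (kernel f₄).IsQuasicoherent := QcAbel.isQuasicoherent_kernel f₄
  have := isIso_cokerToKer f₁ f₂ f₃ w₁ w₂ h₁ h₂
  have hk3 : (kernel f₃).IsQuasicoherent := QcAbel.isQuasicoherent_of_iso (asIso (kernel.lift f₃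
    (cokernel.desc f₁ f₂ w₁) _))
  have hS := shortExact_kerKer f₃ f₄ w₃ h₃
  have : (ShortComplex.mk (kernel.ι f₃) (kernel.lift f₄ f₃ w₃) (by
      rw [← cancel_mono (kernel.ι f₄), Category.assoc, kernel.lift_ι, kernel.condition,
        zero_comp])).X₁.IsQuasicoherent := hk3
  have : (ShortComplex.mk (kernel.ι f₃) (kernel.lift f₄ f₃ w₃) (by
      rw [← cancel_mono (kernel.ι f₄), Category.assoc, kernel.lift_ι, kernel.condition,
        zero_comp])).X₃.IsQuasicoherent := hk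
  exact QcExt.isQuasicoherent_mid hS

end FiveTerm

section Tri

variable {X : Scheme.{u}}

open DerivedCategory DerivedCategory.HomologySequence

/-- middle term of a distinguished triangle -/
theorem isQCohD_of_triangle_mid (T : Triangle (DCoh.D X)) (hT : T ∈ distTriang _)
    (h₁ : DCoh.IsQCohD T.obj₁) (h₃ : DCoh.IsQCohD T.obj₃) : DCoh.IsQCohD T.obj₂ := by
  intro i
  have := h₁ i
  have := h₁ (i + 1)
  have := h₃ i
  have := h₃ (i - 1)
  exact isQuasicoherent_five (δ T (i - 1) i (by lia)) ((homologyFunctor _ i).map T.mor₁)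
    ((homologyFunctor _ i).map T.mor₂) (δ T i (i + 1) rfl)
    (δ_comp T hT _ _ _) _ (comp_δ T hT _ _ _)
    (exact₁ T hT _ _ _) (exact₂ T hT _) (exact₃ T hT _ _ _)

/-- first term of a distinguished triangle -/
theorem isQCohD_of_triangle_left (T : Triangle (DCoh.D X)) (hT : T ∈ distTriang _)
    (h₂ : DCoh.IsQCohD T.obj₂) (h₃ : DCoh.IsQCohD T.obj₃) : DCoh.IsQCohD T.obj₁ := by
  intro i
  have := h₂ i
  have := h₂ (i - 1)
  have := h₃ i
  have := h₃ (i - 1)
  exact isQuasicoherent_five ((homologyFunctor _ (i - 1)).map T.mor₂) (δ T (i - 1) i (by lia))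
    ((homologyFunctor _ i).map T.mor₁) ((homologyFunctor _ i).map T.mor₂)
    (comp_δ T hT _ _ _) (δ_comp T hT _ _ _) _
    (exact₃ T hT _ _ _) (exact₁ T hT _ _ _) (exact₂ T hT _)

/-- third term of a distinguished triangle -/
theorem isQCohD_of_triangle_right (T : Triangle (DCoh.D X)) (hT : T ∈ distTriang _)
    (h₁ : DCoh.IsQCohD T.obj₁) (h₂ : DCoh.IsQCohD T.obj₂) : DCoh.IsQCohD T.obj₃ := by
  intro i
  have := h₁ i
  have := h₁ (i + 1)
  have := h₂ i
  have := h₂ (i + 1)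
  exact isQuasicoherent_five ((homologyFunctor _ i).map T.mor₁)
    ((homologyFunctor _ i).map T.mor₂) (δ T i (i + 1) rfl) ((homologyFunctor _ (i + 1)).map T.mor₁)
    _ (comp_δ T hT _ _ _) (δ_comp T hT _ _ _)
    (exact₂ T hT _) (exact₃ T hT _ _ _) (exact₁ T hT _ _ _)

/-- a binary biproduct of objects of `D_QCoh` is in `D_QCoh` -/
theorem isQCohD_biprod (K L : DCoh.D X) (hK : DCoh.IsQCohD K) (hL : DCoh.IsQCohD L) :
    DCoh.IsQCohD (K ⊞ L) :=
  isQCohD_of_triangle_mid _ (binaryBiproductTriangle_distinguished K L) hK hL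

/-- the zero object is in `D_QCoh` -/
theorem isQCohD_of_isZero (K : DCoh.D X) (hK : IsZero K) : DCoh.IsQCohD K := fun i =>
  QcAbel.isQuasicoherent_of_isZero ((homologyFunctor _ i).map_isZero hK)

/-- `D_QCoh` is stable under shifts -/
theorem isQCohD_shift (K : DCoh.D X) (hK : DCoh.IsQCohD K) (n : ℤ) :
    DCoh.IsQCohD (K⟦n⟧) := fun i =>
  have : (((homologyFunctor X.Modules 0).shift (n + i)).obj K).IsQuasicoherent := hK (n + i)
  QcAbel.isQuasicoherent_of_iso
    (((homologyFunctor X.Modules 0).shiftIso n i (n + i) rfl).app K).symm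

/-- vanishing of cohomology of the first term of a distinguished triangle -/
theorem isZero_HD_of_triangle_left (T : Triangle (DCoh.D X)) (hT : T ∈ distTriang _) (i : ℤ)
    (h₂ : IsZero (DCoh.HD T.obj₂ i)) (h₃ : IsZero (DCoh.HD T.obj₃ (i - 1))) :
    IsZero (DCoh.HD T.obj₁ i) :=
  (exact₁ T hT (i - 1) i (by lia)).isZero_of_both_zeros (h₃.eq_of_src _ _) (h₂.eq_of_tgt _ _)

end Tri

end Groth.Agent.Lib.Helper5.QC
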