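import Mathlib
import Groth.Prelude.Def_DCoh2
import Groth.Prelude.Def_DCoh4
import Groth.Agent.Lib.Helper1.QcAbel
import Groth.Agent.Lib.Helper5.LTen.Flf
import Groth.Agent.Lib.Helper5.Misc.TensorSheaf

/-!
# Colimits and tensor products of quasi-coherent modules on affine schemes (helper5)
-/

set_option autoImplicit false
universe u
open CategoryTheory CategoryTheory.Limits Opposite TopologicalSpace AlgebraicGeometry

namespace Groth.Agent.Lib.Helper5.QC

open Groth.Agent.Helper1

variable {R : CommRingCat.{u}}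

/-- on an affine scheme, a colimit of quasi-coherent modules is quasi-coherent -/
theorem isQuasicoherent_of_isColimit_affine {J : Type*} [Category J]
    (D : J ⥤ (Spec (CommRingCat.of R)).Modules) (hD : ∀ j, (D.obj j).IsQuasicoherent)
    [HasColimit (D ⋙ moduleSpecΓFunctor (R := R))]
    [PreservesColimit (D ⋙ moduleSpecΓFunctor (R := R)) (tilde.functor R)]
    (c : Cocone D) (hc : IsColimit c) : c.pt.IsQuasicoherent := by
  let ε : moduleSpecΓFunctor (R := R) ⋙ tilde.functor R ⟶ 𝟭 _ :=
    Scheme.Modules.fromTildeΓNatTrans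
  haveI hε : ∀ j, IsIso ((Functor.whiskerLeft D ε).app j) := fun j => by
    haveI := hD j
    show IsIso (D.obj j).fromTildeΓ
    infer_instance
  haveI : IsIso (Functor.whiskerLeft D ε) := NatIso.isIso_of_isIso_app _
  let α : D ⋙ moduleSpecΓFunctor (R := R) ⋙ tilde.functor R ≅ D :=
    asIso (Functor.whiskerLeft D ε) ≪≫ D.rightUnitor
  have h1 : IsColimit ((tilde.functor R).mapCocone
      (colimit.cocone (D ⋙ moduleSpecΓFunctor (R := R)))) :=
    isColimitOfPreserves _ (colimit.isColimit _)
  have h2 := (IsColimit.precomposeHomEquiv α.symm _).symm h1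
  have e : (tilde.functor R).obj (colimit (D ⋙ moduleSpecΓFunctor (R := R))) ≅ c.pt :=
    IsColimit.coconePointUniqueUpToIso h2 hc
  exact QcAbel.isQuasicoherent_of_iso e

/-- on an affine scheme, a coproduct of quasi-coherent modules is quasi-coherent -/
theorem isQuasicoherent_sigma_affine {I : Type u} (f : I → (Spec (CommRingCat.of R)).Modules)
    (hf : ∀ i, (f i).IsQuasicoherent) : (∐ f).IsQuasicoherent := by
  haveI : PreservesColimitsOfSize.{u, u} (tilde.functor R) :=
    (tilde.adjunction (R := R)).leftAdjoint_preservesColimits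
  exact isQuasicoherent_of_isColimit_affine (Discrete.functor f) (fun j => hf j.as)
    (colimit.cocone _) (colimit.isColimit _)

/-- `G ⊗ (R^(ι))~` is quasi-coherent for quasi-coherent `G` -/
theorem isQuasicoherent_tensor_tilde_free (G : (Spec (CommRingCat.of R)).Modules) [G.IsQuasicoherent]
    (ι : Type u) :
    ((DCoh.tensorBi.obj G).obj ((tilde.functor R).obj (ModuleCat.of R (ι →₀ R)))).IsQuasicoherent := by
  haveI : PreservesColimitsOfShape (Discrete ι) ((DCoh.tensorBi (X := Spec (CommRingCat.of R))).obj G) :=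
    Groth.Agent.Lib.Helper5.TensorSheaf.tensorBi_obj_preservesColimitsOfShape
      (O := (Spec (CommRingCat.of R)).sheaf) G (Discrete ι)
  let e0 : (tilde.functor R).obj (ModuleCat.of R (ι →₀ R)) ≅ SheafOfModules.free.{u} ι :=
    tildeFinsupp ι
  let e1 := PreservesCoproduct.iso ((DCoh.tensorBi (X := Spec (CommRingCat.of R))).obj G)
    (fun _ : ι => SheafOfModules.unit.{u} (Spec (CommRingCat.of R)).ringCatSheaf)
  let e2 : (∐ fun _ : ι => (DCoh.tensorBi.obj G).obj (Coh.structureModule (Spec (CommRingCat.of R)))) ≅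
      ∐ fun _ : ι => G := Sigma.mapIso (fun _ => Groth.Agent.Lib.Helper5.LTenFlf.tensorUnitIso G)
  haveI : (∐ fun _ : ι => G).IsQuasicoherent :=
    isQuasicoherent_sigma_affine _ (fun _ => inferInstance)
  exact QcAbel.isQuasicoherent_of_iso
    (((DCoh.tensorBi (X := Spec (CommRingCat.of R))).obj G).mapIso e0 ≪≫ e1 ≪≫ e2).symm

/-- **`G ⊗ L~` is quasi-coherent for quasi-coherent `G` and any module `L`** -/
theorem isQuasicoherent_tensor_tilde (G : (Spec (CommRingCat.of R)).Modules) [G.IsQuasicoherent]
    (L : ModuleCat.{u} R) :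
    ((DCoh.tensorBi.obj G).obj ((tilde.functor R).obj L)).IsQuasicoherent := by
  let s : Set L := Set.univ
  let t : Set (s →₀ R) := (LinearMap.ker (Finsupp.linearCombination R ((↑) : s → L)) : Set _)
  have ht : Submodule.span R t = LinearMap.ker (Finsupp.linearCombination R ((↑) : s → L)) :=
    Submodule.span_eq _
  have hs : Submodule.span R s = ⊤ := by simp [s]
  have H₁ : Function.Exact
      (ModuleCat.ofHom (Finsupp.linearCombination (α := t) R (↑))).hom
      (ModuleCat.ofHom (Finsupp.linearCombination (α := s) (M := L) R (↑))).hom :=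
    (LinearMap.exact_iff.mpr (by simp [Finsupp.range_linearCombination, ht]))
  have h₁ := ModuleCat.isColimitCokernelCofork _ _ H₁
    (by simp [← LinearMap.range_eq_top, Finsupp.range_linearCombination, hs])
  let Ψ : ModuleCat.{u} R ⥤ (Spec (CommRingCat.of R)).Modules :=
    tilde.functor R ⋙ (DCoh.tensorBi (X := Spec (CommRingCat.of R))).obj G
  haveI : PreservesColimitsOfSize.{u, u} (tilde.functor R) :=
    (tilde.adjunction (R := R)).leftAdjoint_preservesColimits
  haveI : PreservesColimitsOfSize.{u, u} ((DCoh.tensorBi (X := Spec (CommRingCat.of R))).obj G) :=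
    ⟨fun {K} _ => Groth.Agent.Lib.Helper5.TensorSheaf.tensorBi_obj_preservesColimitsOfShape
      (O := (Spec (CommRingCat.of R)).sheaf) G K⟩
  haveI : PreservesColimitsOfSize.{u, u} Ψ := inferInstance
  haveI : PreservesColimitsOfSize.{0, 0} Ψ := preservesColimitsOfSize_shrink.{0, u, 0, u} Ψ
  haveI : Ψ.Additive := inferInstance
  have h₂ := CokernelCofork.mapIsColimit _ h₁ Ψ
  set f₀ : ModuleCat.of R (t →₀ R) ⟶ ModuleCat.of R (s →₀ R) :=
    ModuleCat.ofHom (Finsupp.linearCombination (α := t) R (↑)) with hf₀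
  have e : Ψ.obj L ≅ cokernel (Ψ.map f₀) :=
    IsColimit.coconePointUniqueUpToIso h₂ (colimit.isColimit (parallelPair (Ψ.map f₀) 0))
  haveI : (Ψ.obj (ModuleCat.of R (t →₀ R))).IsQuasicoherent :=
    isQuasicoherent_tensor_tilde_free G t
  haveI : (Ψ.obj (ModuleCat.of R (s →₀ R))).IsQuasicoherent :=
    isQuasicoherent_tensor_tilde_free G s
  haveI : (cokernel (Ψ.map f₀)).IsQuasicoherent :=
    QcAbel.isQuasicoherent_cokernel _
  exact QcAbel.isQuasicoherent_of_iso e.symm

end Groth.Agent.Lib.Helper5.QC
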