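import Mathlib
import Groth.Prelude.Def_DCoh2
import Groth.Prelude.Def_DCoh4
import Groth.Agent.Lib.Helper5.QC.AffColim
import Groth.Agent.Lib.Helper5.QC.LpullQC
import Groth.Agent.Lib.Helper5.LTen.LTenAll
import Groth.Agent.Lib.Helper5.LTen.DerInv
import Groth.Agent.Lib.Helper5.LTen.PerfTensor
import Groth.Agent.Lib.Helper5.RestrTen.RestrTenS
import Groth.Agent.Lib.Helper5.StalkTen.TildeStalk
import Groth.Agent.Lib.Helper5.KFlat.Res
import Groth.Agent.Lib.Helper5.Perf.TildeCell

/-!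
# Derived tensor products preserve `D_QCoh` (helper5)
-/

set_option autoImplicit false
universe u
open CategoryTheory CategoryTheory.Limits Opposite TopologicalSpace AlgebraicGeometry

attribute [local instance] HasDerivedCategory.standard

namespace Groth.Agent.Lib.Helper5.QC

open Groth.Agent.Helper1 Groth.Agent.Lib.Helper5.RestrTen Groth.Agent.Lib.Helper5.TildeCell
  Groth.Agent.Lib.Helper5.KProj

section General

variable {X : Scheme.{u}}

/-- the cohomology of a complex with quasi-coherent terms is quasi-coherent -/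
theorem isQuasicoherent_homology_of_terms (K : CochainComplex X.Modules ℤ)
    (hK : ∀ n, (K.X n).IsQuasicoherent) (i : ℤ) : (K.homology i).IsQuasicoherent := by
  haveI : (K.sc i).X₁.IsQuasicoherent := hK _
  haveI : (K.sc i).X₂.IsQuasicoherent := hK _
  haveI : (K.sc i).X₃.IsQuasicoherent := hK _
  haveI : (kernel (K.sc i).g).IsQuasicoherent := QcAbel.isQuasicoherent_kernel _
  haveI : (cokernel (kernel.lift (K.sc i).g (K.sc i).f (K.sc i).zero)).IsQuasicoherent :=
    QcAbel.isQuasicoherent_cokernel _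
  exact QcAbel.isQuasicoherent_of_iso (K.sc i).homologyIsoCokernelLift.symm

/-- `Q K ∈ D_QCoh` iff the cohomology sheaves of `K` are quasi-coherent -/
theorem isQCohD_Q_iff (K : CochainComplex X.Modules ℤ) :
    DCoh.IsQCohD (DerivedCategory.Q.obj K) ↔ ∀ i, (K.homology i).IsQuasicoherent := by
  constructor
  · intro h i
    haveI : (DCoh.HD (DerivedCategory.Q.obj K) i).IsQuasicoherent := h i
    have e : DCoh.HD (DerivedCategory.Q.obj K) i ≅ K.homology i :=
      (DerivedCategory.homologyFunctorFactors X.Modules i).app K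
    exact QcAbel.isQuasicoherent_of_iso e
  · intro h i
    haveI := h i
    have e : DCoh.HD (DerivedCategory.Q.obj K) i ≅ K.homology i :=
      (DerivedCategory.homologyFunctorFactors X.Modules i).app K
    exact QcAbel.isQuasicoherent_of_iso e.symm

/-- restriction to an open commutes with cohomology -/
noncomputable def restrictHomologyIso {U : Scheme.{u}} (a : U ⟶ X) [IsOpenImmersion a]
    (K : CochainComplex X.Modules ℤ) (i : ℤ) :
    (resCx a K).homology i ≅ (Scheme.Modules.restrictFunctor a).obj (K.homology i) :=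
  (K.sc i).mapHomologyIso (Scheme.Modules.restrictFunctor a)

/-- restriction to an open preserves `D_QCoh` -/
theorem isQCohD_resCx {U : Scheme.{u}} (a : U ⟶ X) [IsOpenImmersion a]
    (K : CochainComplex X.Modules ℤ) (hK : DCoh.IsQCohD (DerivedCategory.Q.obj K)) :
    DCoh.IsQCohD (DerivedCategory.Q.obj (resCx a K)) := by
  rw [isQCohD_Q_iff] at hK ⊢
  intro i
  haveI := hK i
  haveI : ((Scheme.Modules.restrictFunctor a).obj (K.homology i)).IsQuasicoherent := inferInstance
  exact QcAbel.isQuasicoherent_of_iso (restrictHomologyIso a K i).symm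

end General

section Affine

variable (R : CommRingCat.{u})

/-- termwise tilde -/
noncomputable abbrev tCx : CochainComplex (ModuleCat.{u} R) ℤ ⥤
    CochainComplex (Spec (CommRingCat.of R)).Modules ℤ :=
  (tilde.functor R).mapHomologicalComplex (ComplexShape.up ℤ)

/-- the terms of `M~ ⊗ N~` are quasi-coherent -/
theorem isQuasicoherent_tensorCx_tilde_X (M N : CochainComplex (ModuleCat.{u} R) ℤ) (n : ℤ) :
    (((DCoh.tensorCx.obj ((tCx R).obj M)).obj ((tCx R).obj N)).X n).IsQuasicoherent := by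
  let f : ((ComplexShape.π (ComplexShape.up ℤ) (ComplexShape.up ℤ)
      (ComplexShape.up ℤ)) ⁻¹' {n}) → (Spec (CommRingCat.of R)).Modules :=
    fun i => (DCoh.tensorBi.obj (((tCx R).obj M).X i.1.1)).obj (((tCx R).obj N).X i.1.2)
  change (∐ f).IsQuasicoherent
  haveI : PreservesColimitsOfSize.{u, u} (tilde.functor R) :=
    (tilde.adjunction (R := R)).leftAdjoint_preservesColimits
  haveI : PreservesColimitsOfSize.{0, 0} (tilde.functor R) :=
    preservesColimitsOfSize_shrink.{0, u, 0, u} _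
  refine isQuasicoherent_of_isColimit_affine (Discrete.functor f) (fun j => ?_)
    (colimit.cocone _) (colimit.isColimit _)
  haveI : (((tCx R).obj M).X j.as.1.1).IsQuasicoherent :=
    (inferInstance : ((tilde.functor R).obj (M.X j.as.1.1)).IsQuasicoherent)
  exact isQuasicoherent_tensor_tilde _ (N.X j.as.1.2)

/-- `M~ ⊗ N~ ∈ D_QCoh` -/
theorem isQCohD_tensorCx_tilde (M N : CochainComplex (ModuleCat.{u} R) ℤ) :
    DCoh.IsQCohD (DerivedCategory.Q.obj
      ((DCoh.tensorCx.obj ((tCx R).obj M)).obj ((tCx R).obj N))) := by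
  rw [isQCohD_Q_iff]
  exact isQuasicoherent_homology_of_terms _ (isQuasicoherent_tensorCx_tilde_X R M N)

/-- objects of `D_QCoh(Spec R)` are represented by tildes of complexes -/
theorem exists_tildeCx_iso (K : DCoh.D (Spec (CommRingCat.of R))) (hK : DCoh.IsQCohD K) :
    ∃ M : CochainComplex (ModuleCat.{u} R) ℤ,
      Nonempty (DerivedCategory.Q.obj ((tCx R).obj M) ≅ K) := by
  obtain ⟨M, ⟨eM⟩⟩ := ((tildeD_main R).2.2 K).1 hK
  let M₀ : CochainComplex (ModuleCat.{u} R) ℤ := DerivedCategory.Q.objPreimage M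
  let eM₀ : DerivedCategory.Q.obj M₀ ≅ M := DerivedCategory.Q.objObjPreimageIso M
  exact ⟨M₀, ⟨((tilde.functor R).mapDerivedCategoryFactors.app M₀).symm ≪≫
    (DCoh.tildeD R).mapIso eM₀ ≪≫ eM⟩⟩

/-- objects of `D_QCoh(Spec R)` are represented by K-flat tildes of complexes -/
theorem exists_tildeCx_iso_kflat (K : DCoh.D (Spec (CommRingCat.of R))) (hK : DCoh.IsQCohD K) :
    ∃ M : CochainComplex (ModuleCat.{u} R) ℤ,
      DCoh.IsKFlat (X := Spec (CommRingCat.of R)) ((tCx R).obj M) ∧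
      Nonempty (DerivedCategory.Q.obj ((tCx R).obj M) ≅ K) := by
  obtain ⟨M₀, ⟨e⟩⟩ := exists_tildeCx_iso R K hK
  haveI : QuasiIso ((tCx R).map (resMap M₀)) := inferInstance
  haveI : IsIso (DerivedCategory.Q.map ((tCx R).map (resMap M₀))) :=
    (DerivedCategory.isIso_Q_map_iff_quasiIso _ _).2 inferInstance
  exact ⟨res M₀, Groth.Agent.Lib.Helper5.TildeStalk.isKFlat_tilde R (res M₀)
      (Groth.Agent.Lib.Helper5.KFlat.isKFlat_res M₀),
    ⟨asIso (DerivedCategory.Q.map ((tCx R).map (resMap M₀))) ≪≫ e⟩⟩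

/-- **affine case**: `P ⊗ F ∈ D_QCoh` for `P` K-flat with `P, F ∈ D_QCoh` -/
theorem isQCohD_tensor_affine (P F : CochainComplex (Spec (CommRingCat.of R)).Modules ℤ)
    (hP : DCoh.IsKFlat P) (hPq : DCoh.IsQCohD (DerivedCategory.Q.obj P))
    (hF : DCoh.IsQCohD (DerivedCategory.Q.obj F)) :
    DCoh.IsQCohD (DerivedCategory.Q.obj ((DCoh.tensorCx.obj P).obj F)) := by
  obtain ⟨M, hM, ⟨eP⟩⟩ := exists_tildeCx_iso_kflat R _ hPq
  obtain ⟨N, ⟨eF⟩⟩ := exists_tildeCx_iso R _ hF
  haveI : DCoh.HasLTensorCx F := Groth.Agent.Lib.Helper5.LTenAll.hasLTensorCx F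
  let e1 := (Groth.Agent.Lib.Helper5.LTenAll.ltensorObjIsoOfKFlat F P hP).symm
  let e2 := (DCoh.LTensorCx F).mapIso eP.symm
  let e3 := Groth.Agent.Lib.Helper5.LTenAll.ltensorObjIsoOfKFlat F _ hM
  let e4 := Groth.Agent.Lib.Helper5.LTenDer.mapQIso (DCoh.tensorCx.obj ((tCx R).obj M))
    (fun φ hφ => Groth.Agent.Lib.Helper5.LTenDer.quasiIso_tensor_obj _ hM φ hφ) eF.symm
  exact isQCohD_of_iso (e1 ≪≫ e2 ≪≫ e3 ≪≫ e4).symm (isQCohD_tensorCx_tilde R M N)

end Affine

variable {X : Scheme.{u}}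

/-- `P ⊗ F ∈ D_QCoh` for `P` K-flat with `P, F ∈ D_QCoh` -/
theorem isQCohD_tensor_of_isKFlat (P F : CochainComplex X.Modules ℤ)
    (hP : DCoh.IsKFlat P) (hPq : DCoh.IsQCohD (DerivedCategory.Q.obj P))
    (hF : DCoh.IsQCohD (DerivedCategory.Q.obj F)) :
    DCoh.IsQCohD (DerivedCategory.Q.obj ((DCoh.tensorCx.obj P).obj F)) := by
  rw [isQCohD_Q_iff]
  intro i
  refine QCohLib.isQuasicoherent_of_affine_charts _ (I := X.affineOpens)
    (fun V => Γ(X, V.1)) (fun V => V.2.fromSpec) ?_ ?_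
  · apply le_antisymm le_top
    intro y _
    obtain ⟨_, ⟨W, hW, rfl⟩, hyW, -⟩ := X.isBasis_affineOpens.exists_subset_of_mem_open
      (Set.mem_univ y) isOpen_univ
    refine Opens.mem_iSup.2 ⟨⟨W, hW⟩, ?_⟩
    rw [IsAffineOpen.opensRange_fromSpec]
    exact hyW
  · rintro ⟨V, hV⟩
    have h1 := isQCohD_tensor_affine Γ(X, V) (resCx hV.fromSpec P) (resCx hV.fromSpec F)
      (Groth.Agent.Lib.Helper5.PerfTensor.isKFlat_restrict hV.fromSpec P hP)
      (isQCohD_resCx hV.fromSpec P hPq) (isQCohD_resCx hV.fromSpec F hF)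
    rw [isQCohD_Q_iff] at h1
    haveI := h1 i
    have e : ((DCoh.tensorCx.obj (resCx hV.fromSpec P)).obj (resCx hV.fromSpec F)).homology i ≅
        (((DCoh.tensorCx.obj P).obj F).homology i).restrict hV.fromSpec :=
      (HomologicalComplex.homologyFunctor _ _ i).mapIso (restrictTotIso hV.fromSpec P F).symm ≪≫
          restrictHomologyIso hV.fromSpec _ i
    haveI : ((((DCoh.tensorCx.obj P).obj F).homology i).restrict hV.fromSpec).IsQuasicoherent :=
      QcAbel.isQuasicoherent_of_iso e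
    infer_instance

/-- **`E ⊗^L F ∈ D_QCoh` for `E, F ∈ D_QCoh`** -/
theorem isQCohD_LTensorCx (F : CochainComplex X.Modules ℤ) (hF : DCoh.IsQCohD (DCoh.toD X F))
    [DCoh.HasLTensorCx F] (E : DCoh.D X) (hE : DCoh.IsQCohD E) :
    DCoh.IsQCohD ((DCoh.LTensorCx F).obj E) := by
  obtain ⟨P, hP, ⟨eP⟩, ⟨eT⟩⟩ := Groth.Agent.Lib.Helper5.LTenAll.exists_ltensor_iso F E
  exact isQCohD_of_iso eT.symm
    (isQCohD_tensor_of_isKFlat P F hP (isQCohD_of_iso eP.symm hE) hF)

end Groth.Agent.Lib.Helper5.QC
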