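import Mathlib
import Groth.Prelude.Def_DCoh2
import Groth.Agent.Lib.Helper5.QC.AffAcyc
import Groth.Agent.Lib.Helper5.QC.AbsHom

/-!
# Sections over affine opens as an adapted functor; detection of quasi-isomorphisms (helper5)
-/

set_option autoImplicit false
universe u
open CategoryTheory CategoryTheory.Limits Opposite TopologicalSpace AlgebraicGeometry

attribute [local instance] HasDerivedCategory.standard

namespace Groth.Agent.Lib.Helper5.QC

section General
open Pretriangulated DerivedCategory
variable {C : Type*} [Category C] [Abelian C] [HasDerivedCategory C]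

theorem isZero_Q_iff_acyclic' (X : CochainComplex C ℤ) : IsZero (Q.obj X) ↔ X.Acyclic := by
  constructor
  · intro h n
    rw [HomologicalComplex.exactAt_iff_isZero_homology]
    have h1 : IsZero ((homologyFunctor C n).obj (Q.obj X)) := Functor.map_isZero _ h
    exact h1.of_iso ((homologyFunctorFactors C n).app X).symm
  · intro h
    have hz : ∀ n, IsZero ((homologyFunctor C n).obj (Q.obj X)) := by
      intro n
      have := h n
      rw [HomologicalComplex.exactAt_iff_isZero_homology] at this
      exact this.of_iso ((homologyFunctorFactors C n).app X)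
    have h1 : (Q.obj X).IsLE 0 := by
      rw [isLE_iff]
      intro i _
      exact hz i
    have h2 : (Q.obj X).IsGE 1 := by
      rw [isGE_iff]
      intro i _
      exact hz i
    exact TStructure.t.isZero (Q.obj X) 0 1 (by omega)

theorem quasiIso_iff_acyclic_cone' {K L : CochainComplex C ℤ} (f : K ⟶ L) :
    QuasiIso f ↔ (CochainComplex.mappingCone f).Acyclic := by
  rw [← isZero_Q_iff_acyclic', ← isIso_Q_map_iff_quasiIso]
  exact (Triangle.isZero₃_iff_isIso₁ _ (mappingCone_triangle_distinguished f)).symm

end General

variable {X : Scheme.{u}}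

/-- sections over an open as an additive functor -/
noncomputable def secF (V : X.Opens) : X.Modules ⥤ AddCommGrpCat.{u} :=
  Scheme.Modules.toPresheaf X ⋙ (evaluation _ _).obj (op V)

lemma secF_map {M N : X.Modules} (φ : M ⟶ N) (V : X.Opens) : (secF V).map φ = φ.app V := rfl

instance (V : X.Opens) : (secF V).Additive where
  map_add := by intros; rfl

instance (V : X.Opens) (J : Type) [SmallCategory J] : PreservesLimitsOfShape J (secF V) := by
  unfold secF
  haveI : PreservesLimitsOfSize.{0, 0} (Scheme.Modules.toPresheaf X) :=
    preservesSmallestLimits_of_preservesLimits _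
  haveI : PreservesLimitsOfShape J (Scheme.Modules.toPresheaf X) :=
    PreservesLimitsOfSize.preservesLimitsOfShape
  haveI : PreservesLimitsOfShape J ((evaluation (Opens ↥X)ᵒᵖ Ab.{u}).obj (op V)) := inferInstance
  exact comp_preservesLimitsOfShape _ _

instance (V : X.Opens) : PreservesFiniteLimits (secF V) := ⟨fun _ _ _ => inferInstance⟩

/-- sections over an affine open are adapted to the modules acyclic for the test family -/
theorem adapted_secF [HasExt.{u} X.Modules] (V : X.Opens) (hV : IsAffineOpen V) :
    Adapted (secF V) (FamAcyc (testFam X)) := by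
  have h := adapted_famAcyc (testFam X) (WU V) ⟨V, hV, rfl⟩
  refine ⟨h.zero, ?_, h.X₃, h.X₂⟩
  intro S hS h₁
  have he := h.epi S hS h₁
  rw [AddCommGrpCat.epi_iff_surjective] at he ⊢
  intro s
  obtain ⟨y, hy⟩ := he ((secW V S.X₃).symm s)
  refine ⟨secW V S.X₂ y, ?_⟩
  have hy' : y ≫ S.g = (secW V S.X₃).symm s := hy
  show S.g.app V (secW V S.X₂ y) = s
  rw [← secW_comp, hy', Equiv.apply_symm_apply]

lemma secW_zero'' (T : X.Opens) (N : X.Modules) : secW T N (0 : WU T ⟶ N) = 0 := by
  have h := secW_zero T N N (0 : WU T ⟶ N)
  rwa [comp_zero] at h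

/-- exactness of a short complex of modules can be checked on sections over affine opens -/
theorem exact_of_app_affine (S : ShortComplex X.Modules)
    (h : ∀ (T : X.Opens), IsAffineOpen T → ∀ x : Γ(S.X₂, T), S.g.app T x = 0 →
      ∃ y : Γ(S.X₁, T), S.f.app T y = x) :
    S.Exact := by
  apply exact_of_detects detects_testFam
  rintro W ⟨T, hT, rfl⟩ x hx
  have h1 : S.g.app T (secW T S.X₂ x) = 0 := by
    rw [← secW_comp, hx]
    exact secW_zero'' T S.X₃
  obtain ⟨t, ht⟩ := h T hT _ h1
  refine ⟨(secW T S.X₁).symm t, ?_⟩
  apply (secW T S.X₂).injective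
  rw [secW_comp, Equiv.apply_symm_apply, ht]

/-- exactness of a complex of modules can be checked on sections over affine opens -/
theorem exactAt_of_secF (K : CochainComplex X.Modules ℤ) (j : ℤ)
    (h : ∀ V : X.Opens, IsAffineOpen V →
      (((secF V).mapHomologicalComplex (ComplexShape.up ℤ)).obj K).ExactAt j) :
    K.ExactAt j := by
  rw [HomologicalComplex.exactAt_iff' K (j - 1) j (j + 1) (by simp) (by simp)]
  apply exact_of_app_affine
  intro T hT x hx
  have := h T hT
  rw [HomologicalComplex.exactAt_iff' _ (j - 1) j (j + 1) (by simp) (by simp),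
    ShortComplex.ab_exact_iff] at this
  exact this x hx

/-- quasi-isomorphisms of complexes of modules can be checked on sections over affine opens -/
theorem quasiIso_of_secF {K L : CochainComplex X.Modules ℤ} (φ : K ⟶ L)
    (h : ∀ V : X.Opens, IsAffineOpen V →
      QuasiIso (((secF V).mapHomologicalComplex (ComplexShape.up ℤ)).map φ)) :
    QuasiIso φ := by
  rw [quasiIso_iff_acyclic_cone']
  intro j
  apply exactAt_of_secF
  intro V hV
  have h1 := (quasiIso_iff_acyclic_cone' _).1 (h V hV) j
  exact h1.of_iso (CochainComplex.mappingCone.mapHomologicalComplexIso φ (secF V)).symm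

/-- a pushforward of a morphism of complexes is a quasi-isomorphism if the sections over
preimages of affine opens are -/
theorem quasiIso_pushforward_of_secF {S : Scheme.{u}} (a : X ⟶ S)
    {K L : CochainComplex X.Modules ℤ} (φ : K ⟶ L)
    (h : ∀ V : S.Opens, IsAffineOpen V →
      QuasiIso (((secF (a ⁻¹ᵁ V)).mapHomologicalComplex (ComplexShape.up ℤ)).map φ)) :
    QuasiIso (((Scheme.Modules.pushforward a).mapHomologicalComplex (ComplexShape.up ℤ)).map φ) := by
  apply quasiIso_of_secF
  intro V hV
  exact h V hV

end Groth.Agent.Lib.Helper5.QC
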