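import Mathlib
import Groth.Agent.Lib.Helper5.QC.Spalt

/-!
# Adapted functors applied to Spaltenstein's resolution (helper5)

If `E` is a complex such that all cohomology objects and all terms of all canonical truncations
`τ_{≥ n} E` are `𝒲`-acyclic, and `F` is a left exact functor adapted to the `𝒲`-acyclic objects,
then `F(E) ⟶ F(lim_n I_n)` is a quasi-isomorphism.
-/

set_option autoImplicit false
open CategoryTheory Limits Opposite Abelian HomologicalComplex

namespace Groth.Agent.Lib.Helper5.QC

open Helper5.KInj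

universe w v' v u' u

section

variable {A : Type u} [Category.{v} A] [Abelian A]

theorem isIso_πTruncGE_f' (K : CochainComplex A ℤ) (a n : ℤ) (h : a < n) :
    IsIso ((K.πTruncGE a).f n) := by
  obtain ⟨i, hi⟩ : ∃ i : ℕ, (ComplexShape.embeddingUpIntGE a).f i = n :=
    ⟨(n - a).toNat, by show a + ((n - a).toNat : ℤ) = n; omega⟩
  have hi' : a + (i : ℤ) = n := hi
  have hb : ¬ (ComplexShape.embeddingUpIntGE a).BoundaryGE i := by
    rw [ComplexShape.boundaryGE_embeddingUpIntGE_iff]
    omega
  exact ((ComplexShape.embeddingUpIntGE a).isIso_liftExtend_f_iff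
    (K.restrictionToTruncGE' (ComplexShape.embeddingUpIntGE a))
    (K.restrictionToTruncGE'_hasLift (ComplexShape.embeddingUpIntGE a)) hi).2
    (HomologicalComplex.isIso_restrictionToTruncGE' K _ i hb)

variable [HasExt.{w} A] [EnoughInjectives A]
variable (𝒲 : Set A) (E : CochainComplex A ℤ)
variable (hE : ∀ m, FamAcyc 𝒲 (E.homology m))

include hE in
lemma famAcyc_homology_truncGE (n m : ℤ) : FamAcyc 𝒲 ((E.truncGE n).homology m) := by
  by_cases h : n ≤ m
  · haveI := E.quasiIsoAt_πTruncGE n m h
    haveI : IsIso (homologyMap (E.πTruncGE n) m) :=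
      (quasiIsoAt_iff_isIso_homologyMap (E.πTruncGE n) m).1 inferInstance
    exact (hE m).of_iso (asIso (homologyMap (E.πTruncGE n) m))
  · have hz : IsZero ((E.truncGE n).homology m) :=
      ((E.truncGE n).exactAt_of_isGE n m (by omega)).isZero_homology
    intro W hW
    exact extAcyc_of_isZero W _ hz

variable (hE' : ∀ n i, FamAcyc 𝒲 ((E.truncGE n).X i))
variable {B : Type u'} [Category.{v'} B] [Abelian B] (F : A ⥤ B) [F.Additive]
  [PreservesFiniteLimits F] (hF : Adapted F (FamAcyc 𝒲))

include hE hE' hF in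
lemma preservesLeftHomologyOf_truncGE (n j : ℤ) :
    F.PreservesLeftHomologyOf ((E.truncGE n).sc j) :=
  (cycles_mem_and_preserves (E.truncGE n) hF n (hE' n)
    (famAcyc_homology_truncGE 𝒲 E hE n) j).2

include hE hE' hF in
lemma quasiIsoAt_map_stage_i (n : ℕ) (j : ℤ) : QuasiIsoAt ((FC F).map (stage E n).i) j := by
  haveI := preservesLeftHomologyOf_truncGE 𝒲 E hE hE' F hF (-(n : ℤ)) j
  haveI := preservesLeftHomologyOf_tI 𝒲 E hE F hF n j
  haveI := (stage E n).qi
  exact quasiIsoAt_map_of_preservesLeft F (stage E n).i j inferInstance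

omit [HasExt.{w} A] [EnoughInjectives A] [PreservesFiniteLimits F] in
lemma quasiIsoAt_map_πTruncGE (n j : ℤ) (h : n + 2 ≤ j) :
    QuasiIsoAt ((FC F).map (E.πTruncGE n)) j := by
  have hiso : ∀ i, n < i → IsIso (((FC F).map (E.πTruncGE n)).f i) := by
    intro i hi
    haveI := isIso_πTruncGE_f' E n i hi
    exact inferInstanceAs (IsIso (F.map ((E.πTruncGE n).f i)))
  rw [quasiIsoAt_iff' _ (j - 1) j (j + 1) (by simp) (by simp)]
  haveI : IsIso ((shortComplexFunctor' B (ComplexShape.up ℤ) (j - 1) j (j + 1)).map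
      ((FC F).map (E.πTruncGE n))).τ₁ := hiso _ (by omega)
  haveI : IsIso ((shortComplexFunctor' B (ComplexShape.up ℤ) (j - 1) j (j + 1)).map
      ((FC F).map (E.πTruncGE n))).τ₂ := hiso _ (by omega)
  haveI : IsIso ((shortComplexFunctor' B (ComplexShape.up ℤ) (j - 1) j (j + 1)).map
      ((FC F).map (E.πTruncGE n))).τ₃ := hiso _ (by omega)
  exact ShortComplex.quasiIso_of_epi_of_isIso_of_mono _

variable [HasLimitsOfShape (Discrete ℕ) A] [HasLimitsOfShape (Discrete ℕ) B]
  [HasExactLimitsOfShape (Discrete ℕ) B] [PreservesLimitsOfShape (Discrete ℕ) F]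

include hE hE' hF in
/-- **an adapted functor maps `E ⟶ lim I_n` to a quasi-isomorphism** -/
theorem quasiIso_map_holimLift :
    QuasiIso ((FC F).map (holimLift (tI E) (tp E) (ta E) (ta_tp E))) := by
  rw [quasiIso_iff]
  intro m
  rw [quasiIsoAt_iff_isIso_homologyMap]
  let N : ℕ := (2 - m).toNat
  have hN : 2 - m ≤ N := Int.self_le_toNat _
  haveI := isIso_homologyMap_map_tπ 𝒲 E hE F hF m N (by omega)
  haveI hta : IsIso (homologyMap ((FC F).map (ta E N)) m) := by
    haveI : IsIso (homologyMap ((FC F).map (E.πTruncGE (-(N : ℤ)))) m) :=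
      (quasiIsoAt_iff_isIso_homologyMap _ m).1
        (quasiIsoAt_map_πTruncGE E F (-(N : ℤ)) m (by omega))
    haveI : IsIso (homologyMap ((FC F).map (stage E N).i) m) :=
      (quasiIsoAt_iff_isIso_homologyMap _ m).1 (quasiIsoAt_map_stage_i 𝒲 E hE hE' F hF N m)
    have : (FC F).map (ta E N) = (FC F).map (E.πTruncGE (-(N : ℤ))) ≫
        (FC F).map (stage E N).i := by
      rw [← Functor.map_comp]
      rfl
    rw [this, homologyMap_comp]
    infer_instance
  have hcomp : homologyMap ((FC F).map (holimLift (tI E) (tp E) (ta E) (ta_tp E))) m ≫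
      homologyMap ((FC F).map (tπ E N)) m = homologyMap ((FC F).map (ta E N)) m := by
    rw [← homologyMap_comp, ← Functor.map_comp, holimLift_ι_π]
  haveI : IsIso (homologyMap ((FC F).map (holimLift (tI E) (tp E) (ta E) (ta_tp E))) m ≫
      homologyMap ((FC F).map (tπ E N)) m) := by
    rw [hcomp]
    infer_instance
  exact IsIso.of_isIso_comp_right _ (homologyMap ((FC F).map (tπ E N)) m)

end

end Groth.Agent.Lib.Helper5.QC
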