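import Mathlib
import Groth.Prelude.Def_DCoh2
import Groth.Prelude.Def_DCoh3
import Groth.Agent.Lib.Helper1.PushQc
import Groth.Agent.Lib.Helper5.QC.SecF
import Groth.Agent.Lib.Helper5.QC.SpaltF
import Groth.Agent.Lib.Helper5.QC.LTenQC
import Groth.Agent.Lib.Helper5.QC.DQCTri
import Groth.Agent.Lib.Helper5.MV.MVTri

/-!
# `Ra_*` of a complex with quasi-coherent terms, for an affine morphism `a` (helper5)
-/

set_option autoImplicit false
universe u
open CategoryTheory CategoryTheory.Limits Opposite TopologicalSpace AlgebraicGeometry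

attribute [local instance] HasDerivedCategory.standard

namespace Groth.Agent.Lib.Helper5.QC

open Groth.Agent.Helper1 Helper5.KInj Groth.Agent.Lib.Helper5.MV
open Groth.Agent.Lib.Helper5.RestrTen

variable {X : Scheme.{u}}

section Trunc

variable (E : CochainComplex X.Modules ℤ) (hE : ∀ i, (E.X i).IsQuasicoherent)

include hE in
theorem isQuasicoherent_opcycles (n : ℤ) : (E.opcycles n).IsQuasicoherent := by
  haveI : (E.sc n).X₁.IsQuasicoherent := hE _
  haveI : (E.sc n).X₂.IsQuasicoherent := hE _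
  haveI : (cokernel (E.sc n).f).IsQuasicoherent := QcAbel.isQuasicoherent_cokernel _
  exact QcAbel.isQuasicoherent_of_iso (E.sc n).opcyclesIsoCokernel.symm

include hE in
theorem isQuasicoherent_truncGE_X (n i : ℤ) : ((E.truncGE n).X i).IsQuasicoherent := by
  rcases lt_trichotomy i n with h | h | h
  · exact QcAbel.isQuasicoherent_of_isZero ((E.truncGE n).isZero_of_isStrictlyGE n i h)
  · subst h
    haveI := isQuasicoherent_opcycles E hE i
    exact QcAbel.isQuasicoherent_of_iso (E.truncGEXIsoOpcycles i).symm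
  · haveI := hE i
    exact QcAbel.isQuasicoherent_of_iso (E.truncGEXIso n i h).symm

end Trunc

section Push

variable {S : Scheme.{u}} (a : X ⟶ S) [IsAffineHom a]
variable (E : CochainComplex X.Modules ℤ) (hE : ∀ i, (E.X i).IsQuasicoherent)

include hE in
/-- for an affine morphism `a` and a complex `E` with quasi-coherent terms, `a_*` maps the
K-injective resolution `E ⟶ lim I_n` to a quasi-isomorphism -/
theorem quasiIso_pushC_holimLift [EnoughInjectives X.Modules] :
    QuasiIso ((pushC a).map (holimLift (tI E) (tp E) (ta E) (ta_tp E))) := by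
  haveI : HasExt.{u} X.Modules := hasExt_of_enoughInjectives _
  apply quasiIso_pushforward_of_secF
  intro V hV
  have hV' : IsAffineOpen (a ⁻¹ᵁ V) := hV.preimage a
  refine quasiIso_map_holimLift (testFam X) E (fun m => ?_) (fun n i => ?_) (secF (a ⁻¹ᵁ V))
    (adapted_secF _ hV')
  · haveI := isQuasicoherent_homology_of_terms E hE m
    exact famAcyc_of_isQuasicoherent _
  · haveI := isQuasicoherent_truncGE_X E hE n i
    exact famAcyc_of_isQuasicoherent _

include hE in
/-- `Ra_* E ≅ a_* E` for an affine morphism `a` and a complex `E` with quasi-coherent terms -/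
theorem nonempty_rpush_iso_pushC [DCoh.HasRpush a] :
    Nonempty ((DCoh.Rpush a).obj (DerivedCategory.Q.obj E) ≅
      DerivedCategory.Q.obj ((pushC a).obj E)) := by
  haveI : EnoughInjectives X.Modules := Groth.Agent.S0485.result _ X.ringCatSheaf
  haveI : HasExt.{u} X.Modules := hasExt_of_enoughInjectives _
  let s := holimLift (tI E) (tp E) (ta E) (ta_tp E)
  haveI : (holim (tI E) (tp E)).IsKInjective := isKInjective_holim _ _ (exists_section_tp E)
  haveI hs : QuasiIso s := by
    refine quasiIso_holimLift_of_famAcyc (testFam X) E detects_testFam (fun m => ?_)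
    haveI := isQuasicoherent_homology_of_terms E hE m
    exact famAcyc_of_isQuasicoherent _
  haveI : IsIso (DerivedCategory.Q.map s) := (DerivedCategory.isIso_Q_map_iff_quasiIso _ s).2 hs
  haveI hs' : QuasiIso ((pushC a).map s) := quasiIso_pushC_holimLift a E hE
  haveI : IsIso (DerivedCategory.Q.map ((pushC a).map s)) :=
    (DerivedCategory.isIso_Q_map_iff_quasiIso _ _).2 hs'
  exact ⟨(DCoh.Rpush a).mapIso (asIso (DerivedCategory.Q.map s)) ≪≫
    rpushObjIso a (holim (tI E) (tp E)) ≪≫
    (asIso (DerivedCategory.Q.map ((pushC a).map s))).symm⟩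

include hE in
/-- `Ra_* E ∈ D_QCoh` for an affine morphism `a` and a complex `E` with quasi-coherent terms -/
theorem isQCohD_rpush_Q_of_isAffineHom [DCoh.HasRpush a] :
    DCoh.IsQCohD ((DCoh.Rpush a).obj (DerivedCategory.Q.obj E)) := by
  obtain ⟨e⟩ := nonempty_rpush_iso_pushC a E hE
  refine isQCohD_of_iso e.symm ?_
  rw [isQCohD_Q_iff]
  intro i
  refine isQuasicoherent_homology_of_terms _ (fun n => ?_) i
  haveI := hE n
  exact PushQc.isQuasicoherent_pushforward a (E.X n)

end Push

section Affine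

/-- on an affine scheme, every object of `D_QCoh` is represented by a complex with
quasi-coherent terms -/
theorem exists_qcCx_iso (U : Scheme.{u}) [IsAffine U] (K : DCoh.D U) (hK : DCoh.IsQCohD K) :
    ∃ E : CochainComplex U.Modules ℤ, (∀ i, (E.X i).IsQuasicoherent) ∧
      Nonempty (K ≅ DerivedCategory.Q.obj E) := by
  let φ : U ≅ Spec (CommRingCat.of Γ(U, ⊤)) := U.isoSpec
  let K₀ : CochainComplex U.Modules ℤ := DerivedCategory.Q.objPreimage K
  let eK₀ : DerivedCategory.Q.obj K₀ ≅ K := DerivedCategory.Q.objObjPreimageIso K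
  have hK' : DCoh.IsQCohD (DerivedCategory.Q.obj (resCx φ.inv K₀)) :=
    isQCohD_resCx φ.inv K₀ (isQCohD_of_iso eK₀.symm hK)
  obtain ⟨M, ⟨eM⟩⟩ := exists_tildeCx_iso Γ(U, ⊤) _ hK'
  refine ⟨resCx φ.hom ((tCx Γ(U, ⊤)).obj M), fun i => ?_, ⟨?_⟩⟩
  · exact inferInstanceAs (((Scheme.Modules.restrictFunctor φ.hom).obj
      ((tilde.functor Γ(U, ⊤)).obj (M.X i))).IsQuasicoherent)
  · let e : Scheme.Modules.restrictFunctor φ.inv ⋙ Scheme.Modules.restrictFunctor φ.hom ≅
        𝟭 U.Modules :=
      (Scheme.Modules.restrictFunctorComp φ.hom φ.inv).symm ≪≫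
        Scheme.Modules.restrictFunctorCongr φ.hom_inv_id ≪≫ Scheme.Modules.restrictFunctorId
    let e1 : resCx φ.hom (resCx φ.inv K₀) ≅ K₀ :=
      HomologicalComplex.Hom.isoOfComponents (fun i => e.app (K₀.X i)) (by
        intro i j _
        exact (e.hom.naturality (K₀.d i j)).symm)
    exact eK₀.symm ≪≫ DerivedCategory.Q.mapIso e1.symm ≪≫
      ((Scheme.Modules.restrictFunctor φ.hom).mapDerivedCategoryFactors.app _).symm ≪≫
      (DCoh.restrictD φ.hom).mapIso eM.symm ≪≫
      (Scheme.Modules.restrictFunctor φ.hom).mapDerivedCategoryFactors.app _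

/-- **`Ra_*` preserves `D_QCoh` for an affine morphism from an affine scheme** -/
theorem isQCohD_rpush_of_isAffine {U S : Scheme.{u}} [IsAffine U] (a : U ⟶ S) [IsAffineHom a]
    [DCoh.HasRpush a] (K : DCoh.D U) (hK : DCoh.IsQCohD K) :
    DCoh.IsQCohD ((DCoh.Rpush a).obj K) := by
  obtain ⟨E, hE, ⟨e⟩⟩ := exists_qcCx_iso U K hK
  exact isQCohD_of_iso ((DCoh.Rpush a).mapIso e).symm (isQCohD_rpush_Q_of_isAffineHom a E hE)

end Affine

end Groth.Agent.Lib.Helper5.QC
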