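import Mathlib
import Groth.Prelude.Def_DCoh2
import Groth.Prelude.Def_DCoh3
import Groth.Agent.Lib.Helper5.MV.MVSes2

/-!
# The induction principle for quasi-compact opens of a quasi-separated scheme (helper5)
-/

set_option autoImplicit false
universe u
open CategoryTheory CategoryTheory.Limits Opposite TopologicalSpace AlgebraicGeometry

namespace Groth.Agent.Lib.Helper5.QC

open Groth.Agent.Lib.Helper5.MV

variable {X : Scheme.{u}}

/-- a quasi-compact open contained in an affine open is a finite union of basic opens -/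
theorem exists_finset_basicOpen {V₀ : X.Opens} (hV₀ : IsAffineOpen V₀) (W : X.Opens)
    (hW : IsCompact (W : Set X)) (hle : W ≤ V₀) :
    ∃ s : Finset Γ(X, V₀), W = ⨆ g ∈ s, X.basicOpen g := by
  classical
  let ι := {g : Γ(X, V₀) // X.basicOpen g ≤ W}
  have hcov : (W : Set X) ⊆ ⋃ i : ι, (X.basicOpen i.1 : Set X) := by
    intro x hx
    obtain ⟨g, hg, hxg⟩ := hV₀.exists_basicOpen_le (V := W) ⟨x, hx⟩ (hle hx)
    exact Set.mem_iUnion.2 ⟨⟨g, hg⟩, hxg⟩
  obtain ⟨t, ht⟩ := hW.elim_finite_subcover (fun i : ι => (X.basicOpen i.1 : Set X))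
    (fun i => (X.basicOpen i.1).isOpen) hcov
  refine ⟨t.image Subtype.val, le_antisymm ?_ ?_⟩
  · intro x hx
    obtain ⟨i, hi, hxi⟩ := Set.mem_iUnion₂.1 (ht hx)
    exact Opens.mem_iSup.2 ⟨i.1, Opens.mem_iSup.2 ⟨Finset.mem_image_of_mem _ hi, hxi⟩⟩
  · refine iSup₂_le fun g hg => ?_
    obtain ⟨i, _, rfl⟩ := Finset.mem_image.1 hg
    exact i.2

variable (P : X.Opens → Prop) (hbase : ∀ U : X.Opens, IsAffineOpen U → P U)
  (hMV : ∀ T U V W : X.Opens, MVData T U V W → P U → P V → P W → P T)

include hbase hMV in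
theorem ind_basicOpen {V₀ : X.Opens} (hV₀ : IsAffineOpen V₀) :
    ∀ (n : ℕ) (s : Finset Γ(X, V₀)), s.card ≤ n → P (⨆ g ∈ s, X.basicOpen g) := by
  classical
  intro n
  induction n with
  | zero =>
    intro s hs
    have : s = ∅ := Finset.card_eq_zero.1 (Nat.le_zero.1 hs)
    subst this
    have : (⨆ g ∈ (∅ : Finset Γ(X, V₀)), X.basicOpen g) = ⊥ := by simp
    rw [this]
    exact hbase ⊥ (isAffineOpen_bot X)
  | succ n ih =>
    intro s hs
    by_cases hcard : s.card ≤ n
    · exact ih s hcard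
    · have hne : s.Nonempty := by
        rw [← Finset.card_pos]
        omega
      obtain ⟨g₀, hg₀⟩ := hne
      have hs' : (s.erase g₀).card ≤ n := by
        rw [Finset.card_erase_of_mem hg₀]
        omega
      have hs'' : ((s.erase g₀).image (· * g₀)).card ≤ n := Finset.card_image_le.trans hs'
      refine hMV _ (⨆ g ∈ s.erase g₀, X.basicOpen g) (X.basicOpen g₀)
        (⨆ g ∈ (s.erase g₀).image (· * g₀), X.basicOpen g) ⟨?_, ?_, ?_, ?_, ?_, ?_⟩
        (ih _ hs') (hbase _ (hV₀.basicOpen g₀)) (ih _ hs'')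
      · exact iSup₂_le fun g hg =>
          le_iSup₂ (f := fun g (_ : g ∈ s) => X.basicOpen g) g (Finset.mem_of_mem_erase hg)
      · exact le_iSup₂ (f := fun g (_ : g ∈ s) => X.basicOpen g) g₀ hg₀
      · refine iSup₂_le fun g hg => ?_
        by_cases h : g = g₀
        · subst h
          exact le_sup_right
        · exact le_sup_of_le_left
            (le_iSup₂ (f := fun g (_ : g ∈ s.erase g₀) => X.basicOpen g) g
              (Finset.mem_erase.2 ⟨h, hg⟩))
      · refine iSup₂_le fun g hg => ?_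
        obtain ⟨g', hg', rfl⟩ := Finset.mem_image.1 hg
        refine le_trans ?_
          (le_iSup₂ (f := fun g (_ : g ∈ s.erase g₀) => X.basicOpen g) g' hg')
        show X.basicOpen (g' * g₀) ≤ X.basicOpen g'
        rw [X.basicOpen_mul]
        exact inf_le_left
      · refine iSup₂_le fun g hg => ?_
        obtain ⟨g', hg', rfl⟩ := Finset.mem_image.1 hg
        show X.basicOpen (g' * g₀) ≤ X.basicOpen g₀
        rw [X.basicOpen_mul]
        exact inf_le_right
      · intro x hx
        obtain ⟨hx1, hx2⟩ := hx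
        obtain ⟨g, hxg⟩ := Opens.mem_iSup.1 hx1
        obtain ⟨hg, hxg⟩ := Opens.mem_iSup.1 hxg
        refine Opens.mem_iSup.2 ⟨g * g₀,
          Opens.mem_iSup.2 ⟨Finset.mem_image_of_mem _ hg, ?_⟩⟩
        rw [X.basicOpen_mul]
        exact ⟨hxg, hx2⟩

include hbase hMV in
/-- **the induction principle**: a property of opens which holds for affine opens and
satisfies Mayer–Vietoris holds for all quasi-compact opens of a quasi-separated scheme -/
theorem qcqs_induction [QuasiSeparatedSpace X] (U : X.Opens) (hU : IsCompact (U : Set X)) :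
    P U := by
  refine compact_open_induction_on (P := P) U hU (hbase ⊥ (isAffineOpen_bot X)) ?_
  intro S' hS' V hPS'
  have hc : IsCompact ((S' ⊓ V.1 : X.Opens) : Set X) :=
    QuasiSeparatedSpace.inter_isCompact _ _ S'.isOpen hS' V.1.isOpen V.2.isCompact
  obtain ⟨s, hs⟩ := exists_finset_basicOpen V.2 (S' ⊓ V.1) hc inf_le_right
  have hPW : P (S' ⊓ V.1) := by
    rw [hs]
    exact ind_basicOpen P hbase hMV V.2 s.card s le_rfl
  exact hMV _ _ _ _ (MVData.mk' S' V.1) hPS' (hbase _ V.2) hPW

end Groth.Agent.Lib.Helper5.QC
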