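import Mathlib
import Groth.Prelude.Def_DCoh2
import Groth.Prelude.Def_DCoh3
import Groth.Agent.Lib.Helper5.QC.AffPush
import Groth.Agent.Lib.Helper5.QC.QcqsInd
import Groth.Agent.Lib.Helper5.Stalk.RpushSupp

/-!
# `Rf_*` preserves `D_QCoh` for quasi-compact quasi-separated `f` (helper5)
-/

set_option autoImplicit false
universe u
open CategoryTheory CategoryTheory.Limits Opposite TopologicalSpace AlgebraicGeometry
open Pretriangulated

attribute [local instance] HasDerivedCategory.standard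

namespace Groth.Agent.Lib.Helper5.QC

open Groth.Agent.Helper1 Groth.Agent.Lib.Helper5.MV Groth.Agent.Helper3.KInjDer
open Groth.Agent.Lib.Helper5.RpushSupp Groth.Agent.Lib.Helper5.RpushRes

variable {X S : Scheme.{u}}

/-- restriction to an open preserves `D_QCoh` -/
theorem isQCohD_restrictD (U : X.Opens) (K : DCoh.D X) (hK : DCoh.IsQCohD K) :
    DCoh.IsQCohD ((DCoh.restrictD U.ι).obj K) := by
  intro i
  haveI : (DCoh.HD K i).IsQuasicoherent := hK i
  haveI : ((DCoh.HD K i).restrict U.ι).IsQuasicoherent :=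
    inferInstanceAs ((Scheme.Modules.restrictFunctor U.ι).obj (DCoh.HD K i)).IsQuasicoherent
  exact QcAbel.isQuasicoherent_of_iso (hdRestrictDIso K U i)

/-- `Rf_*` restricted to the whole space -/
theorem nonempty_rpush_top_iso (f : X ⟶ S) [DCoh.HasRpush f]
    [DCoh.HasRpush ((⊤ : X.Opens).ι ≫ f)] (E : DCoh.D X) :
    Nonempty ((DCoh.Rpush ((⊤ : X.Opens).ι ≫ f)).obj ((DCoh.restrictD (⊤ : X.Opens).ι).obj E) ≅
      (DCoh.Rpush f).obj E) := by
  obtain ⟨I, hI, hinj, ⟨eE⟩⟩ := exists_kInjective_injective_repr E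
  haveI := hI
  exact ⟨(vertexIso f ⊤ _ rfl I E eE).symm ≪≫
    DerivedCategory.Q.mapIso ((pushC f).mapIso (ηTopIso I).symm) ≪≫ (rpushObjIso f I).symm ≪≫
    (DCoh.Rpush f).mapIso eE.symm⟩

/-- the property of an open `U` of `X`: `R(f|_U)_*` maps `D_QCoh(X)` to `D_QCoh(S)` -/
def PushQC (f : X ⟶ S) (U : X.Opens) : Prop :=
  ∀ (_ : DCoh.HasRpush (U.ι ≫ f)) (K : DCoh.D X), DCoh.IsQCohD K →
    DCoh.IsQCohD ((DCoh.Rpush (U.ι ≫ f)).obj ((DCoh.restrictD U.ι).obj K))

theorem pushQC_of_isAffineOpen (f : X ⟶ S) [IsAffine S] (U : X.Opens) (hU : IsAffineOpen U) :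
    PushQC f U := by
  intro _ K hK
  haveI : IsAffine (U : Scheme.{u}) := hU
  exact isQCohD_rpush_of_isAffine (U.ι ≫ f) _ (isQCohD_restrictD U K hK)

theorem pushQC_mv (f : X ⟶ S) (T U V W : X.Opens) (D : MVData T U V W)
    (hU : PushQC f U) (hV : PushQC f V) (hW : PushQC f W) : PushQC f T := by
  intro _ K hK
  haveI : DCoh.HasRpush (U.ι ≫ f) := hasRightDerivedFunctor (DCoh.pushKh (U.ι ≫ f))
  haveI : DCoh.HasRpush (V.ι ≫ f) := hasRightDerivedFunctor (DCoh.pushKh (V.ι ≫ f))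
  haveI : DCoh.HasRpush (W.ι ≫ f) := hasRightDerivedFunctor (DCoh.pushKh (W.ι ≫ f))
  obtain ⟨a, b, c, hT⟩ := exists_mv_triangle f D (T.ι ≫ f) (U.ι ≫ f) (V.ι ≫ f) (W.ι ≫ f)
    rfl rfl rfl rfl K
  exact isQCohD_of_triangle_left _ hT
    (isQCohD_biprod _ _ (hU inferInstance K hK) (hV inferInstance K hK)) (hW inferInstance K hK)

/-- **`Rf_*` preserves `D_QCoh`** for `f` quasi-compact and quasi-separated with affine target -/
theorem isQCohD_rpush_of_affine_base (f : X ⟶ S) [IsAffine S] [QuasiCompact f]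
    [QuasiSeparated f] [DCoh.HasRpush f] (K : DCoh.D X) (hK : DCoh.IsQCohD K) :
    DCoh.IsQCohD ((DCoh.Rpush f).obj K) := by
  haveI : CompactSpace X := HasAffineProperty.iff_of_isAffine.mp ‹QuasiCompact f›
  haveI : QuasiSeparatedSpace X := HasAffineProperty.iff_of_isAffine.mp ‹QuasiSeparated f›
  have h := qcqs_induction (PushQC f) (pushQC_of_isAffineOpen f) (pushQC_mv f) ⊤
    (by simpa using isCompact_univ)
  haveI : DCoh.HasRpush ((⊤ : X.Opens).ι ≫ f) :=
    hasRightDerivedFunctor (DCoh.pushKh ((⊤ : X.Opens).ι ≫ f))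
  obtain ⟨e⟩ := nonempty_rpush_top_iso f K
  exact isQCohD_of_iso e (h inferInstance K hK)

/-- quasi-coherence can be checked on the affine opens -/
theorem isQuasicoherent_of_restrict_affineOpens (F : S.Modules)
    (h : ∀ V : S.affineOpens, (F.restrict V.1.ι).IsQuasicoherent) : F.IsQuasicoherent := by
  refine QCohLib.isQuasicoherent_of_affine_charts F (I := S.affineOpens)
    (fun V => Γ(S, V.1)) (fun V => V.2.fromSpec) ?_ ?_
  · have : ∀ V : S.affineOpens, V.2.fromSpec.opensRange = V.1 := fun V =>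
      IsAffineOpen.opensRange_fromSpec V.2
    simp_rw [this]
    exact iSup_affineOpens_eq_top S
  · intro V
    haveI := h V
    haveI : IsAffine (V.1 : Scheme.{u}) := V.2
    haveI : (F.restrict V.2.fromSpec).IsQuasicoherent := by
      have e : F.restrict V.2.fromSpec ≅ (F.restrict V.1.ι).restrict V.2.isoSpec.inv :=
        (Scheme.Modules.restrictFunctorComp V.2.isoSpec.inv V.1.ι).app F
      haveI : ((F.restrict V.1.ι).restrict V.2.isoSpec.inv).IsQuasicoherent :=
        inferInstanceAs ((Scheme.Modules.restrictFunctor V.2.isoSpec.inv).obj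
          (F.restrict V.1.ι)).IsQuasicoherent
      exact QcAbel.isQuasicoherent_of_iso e.symm
    exact Scheme.Modules.isIso_fromTildeΓ_of_isQuasicoherent _

/-- **`Rf_*` preserves `D_QCoh`** for `f` quasi-compact and quasi-separated -/
theorem isQCohD_rpush (f : X ⟶ S) [QuasiCompact f] [QuasiSeparated f] [DCoh.HasRpush f]
    (K : DCoh.D X) (hK : DCoh.IsQCohD K) : DCoh.IsQCohD ((DCoh.Rpush f).obj K) := by
  intro i
  apply isQuasicoherent_of_restrict_affineOpens
  intro V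
  haveI : IsAffine (V.1 : Scheme.{u}) := V.2
  haveI : DCoh.HasRpush (f ∣_ V.1) := hasRightDerivedFunctor (DCoh.pushKh (f ∣_ V.1))
  have h1 : DCoh.IsQCohD ((DCoh.Rpush (f ∣_ V.1)).obj ((DCoh.restrictD (f ⁻¹ᵁ V.1).ι).obj K)) :=
    isQCohD_rpush_of_affine_base (f ∣_ V.1) _ (isQCohD_restrictD _ K hK)
  have h2 : DCoh.IsQCohD ((DCoh.restrictD V.1.ι).obj ((DCoh.Rpush f).obj K)) :=
    isQCohD_of_iso ((rpushRestrictIso f V.1).app K).symm h1
  haveI := h2 i
  exact QcAbel.isQuasicoherent_of_iso (hdRestrictDIso _ V.1 i).symm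

end Groth.Agent.Lib.Helper5.QC
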