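import Mathlib
import Groth.Prelude.Def_DCoh2
import Groth.Prelude.Def_DCoh3
import Groth.Agent.Lib.Helper5.QC.RpushQC

/-!
# A uniform bound for the cohomological dimension of `Rf_*` on `D_QCoh` (helper5)
-/

set_option autoImplicit false
universe u
open CategoryTheory CategoryTheory.Limits Opposite TopologicalSpace AlgebraicGeometry
open Pretriangulated

attribute [local instance] HasDerivedCategory.standard

namespace Groth.Agent.Lib.Helper5.QC

open Groth.Agent.Helper1 Groth.Agent.Lib.Helper5.MV Groth.Agent.Helper3.KInjDer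
open Groth.Agent.Lib.Helper5.RpushSupp Groth.Agent.Lib.Helper5.RpushRes
open Groth.Agent.Lib.Helper5.LocalCoh

section Aux

variable {X : Scheme.{u}}

open DerivedCategory DerivedCategory.HomologySequence in
theorem isZero_HD_of_triangle_mid (T : Triangle (DCoh.D X)) (hT : T ∈ distTriang _) (i : ℤ)
    (h₁ : IsZero (DCoh.HD T.obj₁ i)) (h₃ : IsZero (DCoh.HD T.obj₃ i)) :
    IsZero (DCoh.HD T.obj₂ i) :=
  (exact₂ T hT i).isZero_of_both_zeros (h₁.eq_of_src _ _) (h₃.eq_of_tgt _ _)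

theorem isZero_HD_biprod (K L : DCoh.D X) (i : ℤ) (hK : IsZero (DCoh.HD K i))
    (hL : IsZero (DCoh.HD L i)) : IsZero (DCoh.HD (K ⊞ L) i) :=
  isZero_HD_of_triangle_mid _ (binaryBiproductTriangle_distinguished K L) i hK hL

/-- a module all of whose stalks vanish is zero -/
theorem isZero_of_stalks (M : X.Modules) (h : ∀ x : X, Subsingleton (M.presheaf.stalk x)) :
    IsZero M := by
  apply isZero_of_forall_subsingleton
  intro W
  refine ⟨fun s t => ?_⟩
  let F : TopCat.Sheaf Ab X := ⟨M.presheaf, M.isSheaf⟩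
  refine TopCat.Presheaf.section_ext F W s t (fun x _ => ?_)
  haveI := h x
  exact Subsingleton.elim _ _

/-- vanishing of a module is local -/
theorem isZero_of_cover (M : X.Modules) {ι : Type*} (V : ι → X.Opens) (hV : ⨆ j, V j = ⊤)
    (h : ∀ j, IsZero (M.restrict (V j).ι)) : IsZero M := by
  apply isZero_of_stalks
  intro x
  have hx : x ∈ ⨆ j, V j := by rw [hV]; trivial
  obtain ⟨j, hj⟩ := Opens.mem_iSup.1 hx
  exact subsingleton_stalk_of_isZero_restrict M (V j) (h j) x hj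

theorem isLE_restrictD (U : X.Opens) (E : DCoh.D X) (n : ℤ) [E.IsLE n] :
    ((DCoh.restrictD U.ι).obj E).IsLE n := by
  rw [DerivedCategory.isLE_iff]
  intro i hi
  have h0 : IsZero (DCoh.HD E i) := DerivedCategory.isZero_of_isLE E n i hi
  exact IsZero.of_iso (Functor.map_isZero (Scheme.Modules.restrictFunctor U.ι) h0)
    (hdRestrictDIso E U i).symm

variable (E : CochainComplex X.Modules ℤ) (hE : ∀ i, (E.X i).IsQuasicoherent)

include hE in
theorem isQuasicoherent_cycles (n : ℤ) : (E.cycles n).IsQuasicoherent := by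
  haveI : (E.sc n).X₂.IsQuasicoherent := hE _
  haveI : (E.sc n).X₃.IsQuasicoherent := hE _
  haveI : (kernel (E.sc n).g).IsQuasicoherent := QcAbel.isQuasicoherent_kernel _
  exact QcAbel.isQuasicoherent_of_iso (E.sc n).cyclesIsoKernel.symm

include hE in
theorem isQuasicoherent_truncLE_X (n i : ℤ) : ((E.truncLE n).X i).IsQuasicoherent := by
  rcases lt_trichotomy i n with h | h | h
  · haveI := hE i
    exact QcAbel.isQuasicoherent_of_iso (E.truncLEXIso n i h).symm
  · subst h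
    haveI := isQuasicoherent_cycles E hE i
    exact QcAbel.isQuasicoherent_of_iso (E.truncLEXIsoCycles i).symm
  · exact QcAbel.isQuasicoherent_of_isZero ((E.truncLE n).isZero_of_isStrictlyLE n i h)

end Aux

section Affine

/-- for an affine morphism `a` from an affine scheme, `Ra_*` maps `D_QCoh^{≤ 0}` to `D^{≤ 0}` -/
theorem isZero_HD_rpush_of_isAffine {U S : Scheme.{u}} [IsAffine U] (a : U ⟶ S) [IsAffineHom a]
    [DCoh.HasRpush a] (K : DCoh.D U) (hK : DCoh.IsQCohD K) [K.IsLE 0] (m : ℤ) (hm : 1 ≤ m) :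
    IsZero (DCoh.HD ((DCoh.Rpush a).obj K) m) := by
  obtain ⟨G, hG, ⟨e⟩⟩ := exists_qcCx_iso U K hK
  haveI : (DerivedCategory.Q.obj G).IsLE 0 := DerivedCategory.TStructure.t.isLE_of_iso e 0
  haveI : G.IsLE 0 := (DerivedCategory.isLE_Q_obj_iff G 0).1 inferInstance
  have hG' : ∀ i, ((G.truncLE 0).X i).IsQuasicoherent := isQuasicoherent_truncLE_X G hG 0
  haveI : QuasiIso (G.ιTruncLE 0) := inferInstance
  let e' : K ≅ DerivedCategory.Q.obj (G.truncLE 0) :=
    e ≪≫ (asIso (DerivedCategory.Q.map (G.ιTruncLE 0))).symm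
  obtain ⟨r⟩ := nonempty_rpush_iso_pushC a (G.truncLE 0) hG'
  refine IsZero.of_iso ?_ ((DerivedCategory.homologyFunctor _ m).mapIso
    ((DCoh.Rpush a).mapIso e' ≪≫ r) ≪≫ (DerivedCategory.homologyFunctorFactors _ m).app _)
  have hz : IsZero (((pushC a).obj (G.truncLE 0)).X m) :=
    Functor.map_isZero (Scheme.Modules.pushforward a)
      ((G.truncLE 0).isZero_of_isStrictlyLE 0 m (by omega))
  have hex : ((pushC a).obj (G.truncLE 0)).ExactAt m := by
    rw [HomologicalComplex.exactAt_iff]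
    exact ShortComplex.exact_of_isZero_X₂ _ hz
  exact hex.isZero_homology

end Affine

variable {X S : Scheme.{u}}

/-- the property of an open `U` of `X`: `R(f|_U)_*` maps `D_QCoh^{≤ 0}(X)` to `D^{< N}(S)` -/
def PushBound (f : X ⟶ S) (U : X.Opens) : Prop :=
  ∃ N : ℤ, ∀ (_ : DCoh.HasRpush (U.ι ≫ f)) (E : DCoh.D X), DCoh.IsQCohD E → E.IsLE 0 →
    ∀ m : ℤ, N ≤ m →
      IsZero (DCoh.HD ((DCoh.Rpush (U.ι ≫ f)).obj ((DCoh.restrictD U.ι).obj E)) m)

theorem pushBound_of_isAffineOpen (f : X ⟶ S) [IsAffine S] (U : X.Opens) (hU : IsAffineOpen U) :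
    PushBound f U := by
  refine ⟨1, fun _ E hE hle m hm => ?_⟩
  haveI : IsAffine (U : Scheme.{u}) := hU
  haveI := hle
  haveI := isLE_restrictD U E 0
  exact isZero_HD_rpush_of_isAffine (U.ι ≫ f) _ (isQCohD_restrictD U E hE) m hm

theorem pushBound_mv (f : X ⟶ S) (T U V W : X.Opens) (D : MVData T U V W)
    (hU : PushBound f U) (hV : PushBound f V) (hW : PushBound f W) : PushBound f T := by
  obtain ⟨NU, hU⟩ := hU
  obtain ⟨NV, hV⟩ := hV
  obtain ⟨NW, hW⟩ := hW
  refine ⟨max (max NU NV) (NW + 1), fun _ E hE hle m hm => ?_⟩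
  haveI : DCoh.HasRpush (U.ι ≫ f) := hasRightDerivedFunctor (DCoh.pushKh (U.ι ≫ f))
  haveI : DCoh.HasRpush (V.ι ≫ f) := hasRightDerivedFunctor (DCoh.pushKh (V.ι ≫ f))
  haveI : DCoh.HasRpush (W.ι ≫ f) := hasRightDerivedFunctor (DCoh.pushKh (W.ι ≫ f))
  obtain ⟨a, b, c, hT⟩ := exists_mv_triangle f D (T.ι ≫ f) (U.ι ≫ f) (V.ι ≫ f) (W.ι ≫ f)
    rfl rfl rfl rfl E
  have h1 : NU ≤ m := le_trans (le_trans (le_max_left _ _) (le_max_left _ _)) hm
  have h2 : NV ≤ m := le_trans (le_trans (le_max_right _ _) (le_max_left _ _)) hm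
  have h3 : NW ≤ m - 1 := by
    have := le_trans (le_max_right (max NU NV) (NW + 1)) hm
    omega
  exact isZero_HD_of_triangle_left _ hT m
    (isZero_HD_biprod _ _ m (hU inferInstance E hE hle m h1) (hV inferInstance E hE hle m h2))
    (hW inferInstance E hE hle (m - 1) h3)

/-- the bound over an affine base -/
theorem exists_bound_of_affine_base (f : X ⟶ S) [IsAffine S] [QuasiCompact f]
    [QuasiSeparated f] [DCoh.HasRpush f] :
    ∃ N : ℤ, ∀ (E : DCoh.D X), DCoh.IsQCohD E → E.IsLE 0 → ∀ m : ℤ, N ≤ m →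
      IsZero (DCoh.HD ((DCoh.Rpush f).obj E) m) := by
  haveI : CompactSpace X := HasAffineProperty.iff_of_isAffine.mp ‹QuasiCompact f›
  haveI : QuasiSeparatedSpace X := HasAffineProperty.iff_of_isAffine.mp ‹QuasiSeparated f›
  obtain ⟨N, hN⟩ := qcqs_induction (PushBound f) (pushBound_of_isAffineOpen f) (pushBound_mv f) ⊤
    (by simpa using isCompact_univ)
  refine ⟨N, fun E hE hle m hm => ?_⟩
  haveI : DCoh.HasRpush ((⊤ : X.Opens).ι ≫ f) :=
    hasRightDerivedFunctor (DCoh.pushKh ((⊤ : X.Opens).ι ≫ f))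
  obtain ⟨e⟩ := nonempty_rpush_top_iso f E
  exact IsZero.of_iso (hN inferInstance E hE hle m hm)
    ((DerivedCategory.homologyFunctor _ m).mapIso e.symm)

/-- **the bound**: for `f` quasi-compact and quasi-separated with quasi-compact target, there
is `N` such that `Rf_*` maps `D_QCoh^{≤ 0}(X)` to `D^{< N}(S)` -/
theorem exists_bound (f : X ⟶ S) [QuasiCompact f] [QuasiSeparated f] [CompactSpace S]
    [DCoh.HasRpush f] :
    ∃ N : ℤ, ∀ (E : DCoh.D X), DCoh.IsQCohD E → E.IsLE 0 → ∀ m : ℤ, N ≤ m →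
      IsZero (DCoh.HD ((DCoh.Rpush f).obj E) m) := by
  have hloc : ∀ V : S.affineOpens, ∃ N : ℤ, ∀ (_ : DCoh.HasRpush (f ∣_ V.1))
      (E : DCoh.D (f ⁻¹ᵁ V.1 : Scheme.{u})), DCoh.IsQCohD E → E.IsLE 0 → ∀ m : ℤ, N ≤ m →
      IsZero (DCoh.HD ((DCoh.Rpush (f ∣_ V.1)).obj E) m) := by
    intro V
    haveI : IsAffine (V.1 : Scheme.{u}) := V.2
    haveI : DCoh.HasRpush (f ∣_ V.1) := hasRightDerivedFunctor (DCoh.pushKh (f ∣_ V.1))
    obtain ⟨N, hN⟩ := exists_bound_of_affine_base (f ∣_ V.1)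
    exact ⟨N, fun _ => hN⟩
  choose Nf hNf using hloc
  obtain ⟨s, hs, hcov⟩ := (isCompact_iff_finite_and_eq_biUnion_affineOpens
    (U := (⊤ : S.Opens))).1 (by simpa using isCompact_univ)
  obtain ⟨N, hN⟩ := (hs.image Nf).bddAbove
  refine ⟨N, fun E hE hle m hm => ?_⟩
  haveI := hle
  apply isZero_of_cover _ (fun V : s => (V.1.1 : S.Opens))
  · rw [iSup_subtype']  at hcov
    exact hcov.symm
  · rintro ⟨V, hV⟩
    haveI : DCoh.HasRpush (f ∣_ V.1) := hasRightDerivedFunctor (DCoh.pushKh (f ∣_ V.1))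
    haveI := isLE_restrictD (f ⁻¹ᵁ V.1) E 0
    have h1 : IsZero (DCoh.HD ((DCoh.Rpush (f ∣_ V.1)).obj
        ((DCoh.restrictD (f ⁻¹ᵁ V.1).ι).obj E)) m) :=
      hNf V inferInstance _ (isQCohD_restrictD _ E hE) inferInstance m
        (le_trans (hN (Set.mem_image_of_mem Nf hV)) hm)
    have h2 : IsZero (DCoh.HD ((DCoh.restrictD V.1.ι).obj ((DCoh.Rpush f).obj E)) m) :=
      IsZero.of_iso h1 ((DerivedCategory.homologyFunctor _ m).mapIso
        ((rpushRestrictIso f V.1).app E))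
    exact IsZero.of_iso h2 (hdRestrictDIso _ V.1 m)

end Groth.Agent.Lib.Helper5.QC
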