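import Mathlib
import Groth.Prelude.Def_DCoh3
import Groth.Agent.Lib.Helper5.QC.RpushBound
import Groth.Agent.Lib.Helper5.QC.DQCTri
import Groth.Agent.Lib.Helper5.MV.RpushTri
import Groth.Agent.Lib.Helper5.Perf.PCTri
import Groth.Agent.Lib.Helper5.Perf.PCBiprod
import Groth.Agent.Lib.Helper5.Perf.PerfCoh

/-!
# Pseudo-coherence of `Rf_*` : reduction to the bounded case (helper5)
-/

set_option autoImplicit false
universe u
open CategoryTheory CategoryTheory.Limits Opposite TopologicalSpace AlgebraicGeometry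
open Pretriangulated DerivedCategory.HomologySequence

attribute [local instance] HasDerivedCategory.standard

namespace Groth.Agent.Lib.Helper5.QC

open Groth.Agent.Lib.Helper5.MV Groth.Agent.Lib.Helper5.PCApprox Groth.Agent.Lib.Helper5.PCTri
  Groth.Agent.Lib.Helper5.PCBiprod Groth.Agent.Lib.Helper5.LocalCoh
  Groth.Agent.Lib.Helper5.RpushSupp Groth.Agent.Helper1

variable {X S : Scheme.{u}}

/-- `Rf_*` commutes with shifts, on objects -/
theorem nonempty_rpush_shift_iso (f : X ⟶ S) [DCoh.HasRpush f] (E : DCoh.D X) (c : ℤ) :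
    Nonempty ((DCoh.Rpush f).obj (E⟦c⟧) ≅ ((DCoh.Rpush f).obj E)⟦c⟧) := by
  obtain ⟨I, hI, -, ⟨eI⟩⟩ := exists_kInjective_injective_repr E
  haveI := hI
  exact ⟨(DCoh.Rpush f).mapIso ((shiftFunctor _ c).mapIso eI ≪≫
      ((DerivedCategory.Q.commShiftIso c).app I).symm) ≪≫
    rpushObjIso f (I⟦c⟧) ≪≫
    DerivedCategory.Q.mapIso (((Scheme.Modules.pushforward f).mapCochainComplexShiftIso c).app I) ≪≫
    (DerivedCategory.Q.commShiftIso c).app _ ≪≫
    (shiftFunctor _ c).mapIso ((rpushObjIso f I).symm ≪≫ (DCoh.Rpush f).mapIso eI.symm)⟩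

/-- the homology of a shift -/
noncomputable def hdShiftIso (E : DCoh.D X) (c i j : ℤ) (h : c + i = j) :
    DCoh.HD (E⟦c⟧) i ≅ DCoh.HD E j :=
  ((DerivedCategory.homologyFunctor X.Modules 0).shiftIso c i j h).app E

/-- `D_QCoh` is stable under shifts -/
theorem isQCohD_shift' (E : DCoh.D X) (hE : DCoh.IsQCohD E) (c : ℤ) : DCoh.IsQCohD (E⟦c⟧) := by
  intro i
  haveI : (DCoh.HD E (i + c)).IsQuasicoherent := hE (i + c)
  exact QcAbel.isQuasicoherent_of_iso (hdShiftIso E c i (i + c) (by omega)).symm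

/-- **the shifted bound** -/
theorem exists_bound_shift (f : X ⟶ S) [QuasiCompact f] [QuasiSeparated f] [CompactSpace S]
    [DCoh.HasRpush f] :
    ∃ N : ℤ, ∀ (E : DCoh.D X) (c : ℤ), DCoh.IsQCohD E → E.IsLE c → ∀ m : ℤ, N + c ≤ m →
      IsZero (DCoh.HD ((DCoh.Rpush f).obj E) m) := by
  obtain ⟨N, hN⟩ := exists_bound f
  refine ⟨N, fun E c hE hc m hm => ?_⟩
  haveI := hc
  haveI : (E⟦c⟧).IsLE 0 := DerivedCategory.TStructure.t.isLE_shift E c c 0 (by omega)
  have h1 := hN (E⟦c⟧) (isQCohD_shift' E hE c) inferInstance (m - c) (by omega)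
  obtain ⟨e⟩ := nonempty_rpush_shift_iso f E c
  have h2 : IsZero (DCoh.HD (((DCoh.Rpush f).obj E)⟦c⟧) (m - c)) :=
    IsZero.of_iso h1 ((DerivedCategory.homologyFunctor S.Modules (m - c)).mapIso e.symm)
  exact IsZero.of_iso h2 (hdShiftIso _ c (m - c) m (by omega)).symm

/-- in a distinguished triangle `L ⟶ F ⟶ G` with `L ∈ D^{< a}`, `G ∈ D^{≥ a}` and `F ∈ D_QCoh`,
the object `G` is in `D_QCoh` -/
theorem isQCohD_of_truncation (T : Triangle (DCoh.D X)) (hT : T ∈ distTriang _) (a : ℤ)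
    [T.obj₁.IsLE (a - 1)] [T.obj₃.IsGE a] (hF : DCoh.IsQCohD T.obj₂) : DCoh.IsQCohD T.obj₃ := by
  intro i
  by_cases hi : i < a
  · exact QcAbel.isQuasicoherent_of_isZero (DerivedCategory.isZero_of_isGE T.obj₃ a i hi)
  · have h1 : IsZero (DCoh.HD T.obj₁ i) := DerivedCategory.isZero_of_isLE T.obj₁ (a - 1) i (by omega)
    have h2 : IsZero (DCoh.HD T.obj₁ (i + 1)) :=
      DerivedCategory.isZero_of_isLE T.obj₁ (a - 1) (i + 1) (by omega)
    haveI : Mono ((DerivedCategory.homologyFunctor X.Modules i).map T.mor₂) :=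
      (exact₂ T hT i).mono_g (h1.eq_of_src _ _)
    haveI : Epi ((DerivedCategory.homologyFunctor X.Modules i).map T.mor₂) :=
      (exact₃ T hT i (i + 1) rfl).epi_f (h2.eq_of_tgt _ _)
    haveI : IsIso ((DerivedCategory.homologyFunctor X.Modules i).map T.mor₂) :=
      isIso_of_mono_of_epi _
    haveI : (DCoh.HD T.obj₂ i).IsQuasicoherent := hF i
    exact QcAbel.isQuasicoherent_of_iso
      (asIso ((DerivedCategory.homologyFunctor X.Modules i).map T.mor₂))

/-- an object of `D^{< m}` is `m`-pseudo-coherent -/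
theorem isPC_of_isLE (K : DCoh.D X) (m : ℤ) [K.IsLE (m - 1)] : DCoh.IsPseudoCoherentD m K := by
  apply isPC_of_approx
  intro x
  refine ⟨_, (⊤ : X.Opens).ι, inferInstance, by simp, approx_zero m _ (fun i hi => ?_)⟩
  haveI := isLE_restrictD (⊤ : X.Opens) K (m - 1)
  exact DerivedCategory.isZero_of_isLE _ (m - 1) i (by omega)

/-- a pseudo-coherent object on a quasi-compact scheme is bounded above -/
theorem exists_isLE_of_isPC [CompactSpace X] (F : DCoh.D X) (m : ℤ)
    (hF : DCoh.IsPseudoCoherentD m F) : ∃ b : ℤ, F.IsLE b := by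
  classical
  have key : ∀ x : X, ∃ (V : X.Opens) (b : ℤ), x ∈ V ∧
      ∀ i : ℤ, b ≤ i → IsZero ((DCoh.HD F i).restrict V.ι) := by
    intro x
    obtain ⟨V, hxV, hV⟩ := exists_approx_of_isPC hF x
    obtain ⟨M, -, hM⟩ := exists_bound_of_approx hV
    exact ⟨V, M, hxV, fun i hi => IsZero.of_iso (hM i hi) (hdRestrictDIso F V i)⟩
  choose V b hxV hV using key
  obtain ⟨s, hs⟩ := CompactSpace.elim_nhds_subcover (fun x => (V x : Set X))
    (fun x => (V x).isOpen.mem_nhds (hxV x))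
  obtain ⟨b₀, hb₀⟩ := Finset.exists_le (s.image b)
  refine ⟨b₀, ?_⟩
  rw [DerivedCategory.isLE_iff]
  intro i hi
  apply isZero_of_locally
  intro y
  have hy : y ∈ ⋃ x ∈ s, (V x : Set X) := by
    rw [hs]
    trivial
  simp only [Set.mem_iUnion] at hy
  obtain ⟨x, hxs, hyV⟩ := hy
  have h1 : b x ≤ b₀ := hb₀ _ (Finset.mem_image_of_mem b hxs)
  exact ⟨V x, hyV, hV x i (by omega)⟩

/-- pseudo-coherent objects have quasi-coherent cohomology -/
theorem isQCohD_of_isPC (F : DCoh.D X) (hF : ∀ m : ℤ, DCoh.IsPseudoCoherentD m F) :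
    DCoh.IsQCohD F := fun i =>
  (Groth.Agent.Lib.Helper5.PerfCoh.qcoh_of_isPseudoCoherentD (i - 1) F (hF (i - 1))).1 i (by omega)

/-- **reduction of the pseudo-coherence of `Rf_*` to bounded objects** -/
theorem isPC_rpush_of_bounded (f : X ⟶ S) [QuasiCompact f] [QuasiSeparated f] [CompactSpace S]
    [DCoh.HasRpush f] (k : ℤ)
    (hK : ∀ (F : DCoh.D X) (n a b : ℤ), F.IsGE a → F.IsLE b → DCoh.IsPseudoCoherentD n F →
      DCoh.IsPseudoCoherentD (n + k) ((DCoh.Rpush f).obj F))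
    (F : DCoh.D X) (hF : ∀ m : ℤ, DCoh.IsPseudoCoherentD m F) (m : ℤ) :
    DCoh.IsPseudoCoherentD m ((DCoh.Rpush f).obj F) := by
  haveI : CompactSpace X := QuasiCompact.compactSpace_of_compactSpace f
  obtain ⟨N, hN⟩ := exists_bound_shift f
  obtain ⟨b, hb⟩ := exists_isLE_of_isPC F 0 (hF 0)
  haveI := hb
  have hFq := isQCohD_of_isPC F hF
  let a : ℤ := min (m - N + 1) (m - k + 1)
  have ha1 : a ≤ m - N + 1 := min_le_left _ _
  have ha2 : a ≤ m - k + 1 := min_le_right _ _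
  let t : Triangulated.TStructure (DCoh.D X) := DerivedCategory.TStructure.t
  let T := (t.triangleLEGE (a - 1) a (by omega)).obj F
  have hT : T ∈ distTriang _ := t.triangleLEGE_distinguished (a - 1) a (by omega) F
  haveI h1 : T.obj₁.IsLE (a - 1) := inferInstanceAs (((t.truncLE (a - 1)).obj F).IsLE (a - 1))
  haveI h3 : T.obj₃.IsGE a := inferInstanceAs (((t.truncGE a).obj F).IsGE a)
  have hG : DCoh.IsQCohD T.obj₃ := isQCohD_of_truncation T hT a hFq
  have hL : DCoh.IsQCohD T.obj₁ := isQCohD_of_triangle_left T hT hFq hG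
  -- the truncation above `a` is bounded and `(m - k)`-pseudo-coherent
  have hG3 : T.obj₃.IsLE b := by
    rw [DerivedCategory.isLE_iff]
    intro i hi
    have h2 : IsZero (DCoh.HD T.obj₂ i) := DerivedCategory.isZero_of_isLE F b i hi
    by_cases hia : i < a
    · exact DerivedCategory.isZero_of_isGE T.obj₃ a i hia
    · have h1' : IsZero (DCoh.HD T.obj₁ (i + 1)) :=
        DerivedCategory.isZero_of_isLE T.obj₁ (a - 1) (i + 1) (by omega)
      exact (exact₃ T hT i (i + 1) rfl).isZero_of_both_zeros (h2.eq_of_src _ _)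
        (h1'.eq_of_tgt _ _)
  have hLpc : DCoh.IsPseudoCoherentD (m - k + 1) T.obj₁ := by
    haveI : T.obj₁.IsLE (m - k + 1 - 1) :=
      DerivedCategory.TStructure.t.isLE_of_le T.obj₁ (a - 1) _ (by omega)
    exact isPC_of_isLE T.obj₁ (m - k + 1)
  have hGpc : DCoh.IsPseudoCoherentD (m - k) T.obj₃ :=
    (isPC_triangle (m - k) T hT).1 hLpc (hF (m - k))
  have hRG : DCoh.IsPseudoCoherentD m ((DCoh.Rpush f).obj T.obj₃) := by
    have := hK T.obj₃ (m - k) a b h3 hG3 hGpc
    rwa [show m - k + k = m by omega] at this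
  -- the truncation below `a` is pushed into `D^{< m}`
  have hRL : DCoh.IsPseudoCoherentD m ((DCoh.Rpush f).obj T.obj₁) := by
    haveI : ((DCoh.Rpush f).obj T.obj₁).IsLE (m - 1) := by
      rw [DerivedCategory.isLE_iff]
      intro i hi
      exact hN T.obj₁ (a - 1) hL h1 i (by omega)
    exact isPC_of_isLE _ m
  obtain ⟨c, hc⟩ := exists_distinguished_rpush f T hT
  exact (isPC_triangle m _ hc).2.1 hRL hRG

end Groth.Agent.Lib.Helper5.QC
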