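import Mathlib

/-!
# Faithfully flat affine charts for fpqc morphisms (helper5)
-/

set_option autoImplicit false
universe u
open CategoryTheory CategoryTheory.Limits Opposite TopologicalSpace AlgebraicGeometry

namespace Groth.Agent.Lib.Helper5.FFChart

/-- for a flat surjective quasi-compact `f : X' ⟶ X` and an affine open `V ⊆ X`, there is an affine
scheme `Spec B` flat over `X'` whose composite to `X` factors through a faithfully flat
`Spec B ⟶ Spec Γ(X, V)`. -/
theorem exists_ff_chart {X' X : Scheme.{u}} (f : X' ⟶ X) [Flat f] [Surjective f] [QuasiCompact f]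
    (V : X.Opens) (hV : IsAffineOpen V) :
    ∃ (B : CommRingCat.{u}) (a : Spec B ⟶ X') (ψ : Γ(X, V) ⟶ B), Flat a ∧ ψ.hom.FaithfullyFlat ∧
      Spec.map ψ ≫ hV.fromSpec = a ≫ f := by
  have hc : IsCompact ((f ⁻¹ᵁ V : X'.Opens) : Set X') := f.isCompact_preimage hV.isCompact
  obtain ⟨s, hs, hsV⟩ := isCompact_iff_finite_and_eq_biUnion_affineOpens.mp hc
  haveI : Finite s := hs.to_subtype
  let W : s → Scheme.{u} := fun i => ((i.1.1 : X'.Opens) : Scheme.{u})
  haveI : ∀ i, IsAffine (W i) := fun i => i.1.2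
  let Y' : Scheme.{u} := ∐ W
  let a0 : Y' ⟶ X' := Sigma.desc (fun i : s => (i.1.1 : X'.Opens).ι)
  haveI : Flat a0 := inferInstance
  haveI : IsAffine Y' := inferInstance
  let B : CommRingCat.{u} := Γ(Y', ⊤)
  let a : Spec B ⟶ X' := Y'.isoSpec.inv ≫ a0
  have hW : ∀ i : s, (i.1.1 : X'.Opens) ≤ f ⁻¹ᵁ V := by
    intro i
    rw [hsV]
    exact le_iSup₂ (f := fun (j : X'.affineOpens) (_ : j ∈ s) => (j : X'.Opens)) i.1 i.2
  have ha0 : ∀ y : Y', a0 y ∈ f ⁻¹ᵁ V := by
    intro y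
    obtain ⟨i, z, rfl⟩ := (sigmaOpenCover W).exists_eq y
    have h2 : (sigmaOpenCover W).f i ≫ a0 = (i.1.1 : X'.Opens).ι :=
      Sigma.ι_desc (fun i : s => (i.1.1 : X'.Opens).ι) i
    have : a0 ((sigmaOpenCover W).f i z) = (i.1.1 : X'.Opens).ι z := by
      rw [← Scheme.Hom.comp_apply, h2]
      rfl
    rw [this]
    exact hW i z.2
  have hrange : Set.range (a ≫ f) ⊆ Set.range hV.fromSpec := by
    rintro _ ⟨y, rfl⟩
    rw [hV.range_fromSpec]
    exact ha0 (Y'.isoSpec.inv y)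
  let g : Spec B ⟶ Spec Γ(X, V) := IsOpenImmersion.lift hV.fromSpec (a ≫ f) hrange
  have hg : g ≫ hV.fromSpec = a ≫ f := IsOpenImmersion.lift_fac _ _ _
  let ψ : Γ(X, V) ⟶ B := Spec.preimage g
  have hψ : Spec.map ψ = g := Spec.map_preimage g
  haveI : Flat a := inferInstance
  refine ⟨B, a, ψ, inferInstance, ?_, by rw [hψ, hg]⟩
  rw [← flat_and_surjective_SpecMap_iff, hψ]
  constructor
  · haveI : Flat (g ≫ hV.fromSpec) := by rw [hg]; infer_instance
    exact MorphismProperty.of_postcomp (W := @Flat) (W' := @IsOpenImmersion) g hV.fromSpec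
      inferInstance inferInstance
  · constructor
    intro p
    obtain ⟨x', hx'⟩ := f.surjective (hV.fromSpec p)
    have hx'V : x' ∈ f ⁻¹ᵁ V := by
      show f x' ∈ V
      rw [hx']
      have : hV.fromSpec p ∈ Set.range hV.fromSpec := ⟨p, rfl⟩
      rw [hV.range_fromSpec] at this
      exact this
    rw [hsV] at hx'V
    simp only [Opens.mem_iSup] at hx'V
    obtain ⟨i, hi, hxi⟩ := hx'V
    let z : W ⟨i, hi⟩ := ⟨x', hxi⟩
    let y0 : Y' := (sigmaOpenCover W).f ⟨i, hi⟩ z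
    refine ⟨Y'.isoSpec.hom y0, ?_⟩
    apply hV.fromSpec.isOpenEmbedding.injective
    rw [← Scheme.Hom.comp_apply, hg, ← hx']
    show f (a0 (Y'.isoSpec.inv (Y'.isoSpec.hom y0))) = f x'
    congr 1
    have h1 : Y'.isoSpec.inv (Y'.isoSpec.hom y0) = y0 := by
      rw [← Scheme.Hom.comp_apply, Iso.hom_inv_id]
      rfl
    rw [h1]
    show a0 ((sigmaOpenCover W).f ⟨i, hi⟩ z) = x'
    rw [← Scheme.Hom.comp_apply]
    have : (sigmaOpenCover W).f ⟨i, hi⟩ ≫ a0 = (i : X'.Opens).ι :=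
      Sigma.ι_desc (fun i : s => (i.1.1 : X'.Opens).ι) ⟨i, hi⟩
    rw [this]
    rfl

end Groth.Agent.Lib.Helper5.FFChart
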