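import Mathlib
import Groth.Prelude.Def_DCoh3
import Groth.Prelude.Def_DRing2
import Groth.Agent.Lib.Helper5.QC.LpullQC
import Groth.Agent.Lib.Helper5.TildePC.Main
import Groth.Agent.Lib.Helper5.Perf.LpullPC
import Groth.Agent.Lib.Helper5.KFlat.LBCFlat
import Groth.Agent.Lib.Helper5.QC.FFChart
import Groth.Agent.S6941

/-!
# fpqc descent of pseudo-coherence for objects of `D_QCoh` (helper5)
-/

set_option autoImplicit false
universe u
open CategoryTheory CategoryTheory.Limits Opposite TopologicalSpace AlgebraicGeometry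

attribute [local instance] HasDerivedCategory.standard

namespace Groth.Agent.Lib.Helper5.FpqcPC

open Groth.Agent.Lib.Helper5.LpullLib Groth.Agent.Lib.Helper5.StalkAdj Groth.Agent.Helper1
  Groth.Agent.Lib.Helper5.KProj.DerHo Groth.Agent.Lib.Helper5.QC Groth.Agent.Lib.Helper5.PCApprox
  Groth.Agent.Lib.Helper5.KProj Groth.Agent.Lib.Helper5.KFlat Groth.Agent.Lib.Helper5.DTenLib
  Groth.Agent.Lib.Helper5.TildePC

section Ring

variable {A B : Type u} [CommRing A] [CommRing B] (φ : A →+* B)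

/-- for flat `φ`, the comparison `LBC (Q K) ⟶ Q (K ⊗ B)` is an isomorphism for all `K` -/
theorem isIso_lbcCmp_of_flat (hφ : φ.Flat) (K : DRing.Cx A) : IsIso ((lbcCmp φ).app K) := by
  haveI := ModuleCat.preservesFiniteLimits_extendScalars_of_flat hφ
  have hnat := (lbcCmp φ).naturality (resMap K)
  have i1 : IsIso ((DerivedCategory.Q ⋙ DRing.LBaseChange φ).map (resMap K)) := by
    dsimp
    infer_instance
  have i2 : IsIso ((lbcCmp φ).app (res K)) := inferInstance
  have i3 : IsIso ((bcCx φ ⋙ DerivedCategory.Q).map (resMap K)) := by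
    dsimp
    rw [DerivedCategory.isIso_Q_map_iff_quasiIso]
    infer_instance
  have i4 : IsIso ((lbcCmp φ).app (res K) ≫ (bcCx φ ⋙ DerivedCategory.Q).map (resMap K)) :=
    IsIso.comp_isIso' i2 i3
  exact IsIso.of_isIso_fac_left hnat

/-- derived base change along a flat ring map is computed termwise -/
noncomputable def lbcIsoOfFlat (hφ : φ.Flat) (K : DRing.Cx A) :
    (DRing.LBaseChange φ).obj (DRing.toD K) ≅ DRing.toD ((bcCx φ).obj K) :=
  haveI := isIso_lbcCmp_of_flat φ hφ K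
  asIso ((lbcCmp φ).app K)

/-- **faithfully flat descent of pseudo-coherence in `D(A)`, derived form** -/
theorem isPseudoCoherent_of_LBaseChange (hφ : φ.FaithfullyFlat) (N : Dual.D A) (m : ℤ)
    (h : DRing.IsPseudoCoherent B m ((DRing.LBaseChange φ).obj N)) :
    DRing.IsPseudoCoherent A m N := by
  let K : DRing.Cx A := DerivedCategory.Q.objPreimage N
  let eK : DerivedCategory.Q.obj K ≅ N := DerivedCategory.Q.objObjPreimageIso N
  letI : Algebra A B := φ.toAlgebra
  haveI : Module.FaithfullyFlat A B := hφ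
  have h1 : DRing.IsPseudoCoherent B m (DRing.toD ((bcCx φ).obj K)) :=
    isPseudoCoherent_of_iso ((DRing.LBaseChange φ).mapIso eK.symm ≪≫ lbcIsoOfFlat φ hφ.flat K) h
  exact isPseudoCoherent_of_iso eK ((Groth.Agent.S6941.result (R := A) (R' := B) K m).1 h1)

end Ring

variable {X Y V : Scheme.{u}}

/-- `Lj^* K ≅ K|_U` for an open immersion `j` -/
theorem nonempty_lpull_iso_restrictD (j : V ⟶ X) [IsOpenImmersion j] [DCoh.HasLpull j]
    (K : DCoh.D X) : Nonempty ((DCoh.Lpull j).obj K ≅ (DCoh.restrictD j).obj K) := by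
  let F : CochainComplex X.Modules ℤ := DerivedCategory.Q.objPreimage K
  let e : DerivedCategory.Q.obj F ≅ K := DerivedCategory.Q.objObjPreimageIso K
  obtain ⟨i⟩ := nonempty_lpullObjIso_of_flat j F
  exact ⟨(DCoh.Lpull j).mapIso e.symm ≪≫ i ≪≫
    DerivedCategory.Q.mapIso ((NatIso.mapHomologicalComplex
      (Scheme.Modules.restrictFunctorIsoPullback j) (ComplexShape.up ℤ)).app F).symm ≪≫
    ((Scheme.Modules.restrictFunctor j).mapDerivedCategoryFactors.app F).symm ≪≫
    (DCoh.restrictD j).mapIso e⟩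

/-- **fpqc descent of pseudo-coherence** for objects of `D_QCoh` -/
theorem isPseudoCoherentD_of_Lpull {X' : Scheme.{u}} (f : X' ⟶ X) [Flat f] [Surjective f]
    [QuasiCompact f] [DCoh.HasLpull f] (E : DCoh.D X) (hE : DCoh.IsQCohD E) (m : ℤ)
    (h : DCoh.IsPseudoCoherentD m ((DCoh.Lpull f).obj E)) : DCoh.IsPseudoCoherentD m E := by
  apply isPC_of_approx
  intro x
  obtain ⟨_, ⟨V, hV : IsAffineOpen V, rfl⟩, hxV, -⟩ :=
    X.isBasis_affineOpens.exists_subset_of_mem_open (Set.mem_univ x) isOpen_univ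
  obtain ⟨B, a, ψ, ha, hψ, hsq⟩ := FFChart.exists_ff_chart f V hV
  let b := hV.fromSpec
  refine ⟨_, b, inferInstance, by rw [hV.range_fromSpec]; exact hxV, ?_⟩
  haveI : DCoh.HasLpull a := hasLpull a
  haveI : DCoh.HasLpull b := hasLpull b
  haveI : DCoh.HasLpull (Spec.map ψ) := hasLpull _
  haveI : DCoh.HasLpull (a ≫ f) := hasLpull _
  haveI : DCoh.HasLpull (Spec.map ψ ≫ b) := hasLpull _
  -- `Lb^* E` is a tilde
  let K' : DCoh.D (Spec Γ(X, V)) := (DCoh.Lpull b).obj E
  have hK' : DCoh.IsQCohD K' := isQCohD_Lpull b E hE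
  obtain ⟨N, ⟨eN⟩⟩ := ((tildeD_main Γ(X, V)).2.2 K').1 hK'
  -- pull back to `Spec B`
  have h1 : DCoh.IsPseudoCoherentD m ((DCoh.Lpull a).obj ((DCoh.Lpull f).obj E)) :=
    isPseudoCoherentD_Lpull a m _ h
  obtain ⟨c1⟩ := lpull_comp (Spec.map ψ) b
  obtain ⟨c2⟩ := lpull_comp a f
  obtain ⟨eL⟩ := Groth.Agent.Lib.Helper5.TildeCell.lbc_tilde_iso ψ
  have h2 : DCoh.IsPseudoCoherentD m ((DCoh.tildeD B).obj ((DRing.LBaseChange ψ.hom).obj N)) :=
    Groth.Agent.Lib.Helper5.PCTri.isPC_of_iso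
      (c2.app E ≪≫ (lpullCongr hsq).symm.app E ≪≫ (c1.app E).symm ≪≫
        (DCoh.Lpull (Spec.map ψ)).mapIso eN.symm ≪≫ (eL.app N).symm) h1
  have h3 : DRing.IsPseudoCoherent B m ((DRing.LBaseChange ψ.hom).obj N) :=
    (isPseudoCoherentD_tildeD_iff B _ m).1 h2
  have h4 : DRing.IsPseudoCoherent Γ(X, V) m N := isPseudoCoherent_of_LBaseChange ψ.hom hψ N m h3
  obtain ⟨e⟩ := nonempty_lpull_iso_restrictD b E
  exact (approx_tildeD_of_isPseudoCoherent Γ(X, V) N m h4).of_iso (eN ≪≫ e)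

end Groth.Agent.Lib.Helper5.FpqcPC
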