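import Mathlib
import Groth.Agent.Lib.Helper5.QC.AffPush
import Groth.Agent.Lib.Helper5.Stalk.LpullAdj

/-!
# The unit `f_* F ⟶ Rf_* F` is an isomorphism for affine `f` and quasi-coherent terms (helper5)
-/

set_option autoImplicit false
universe u
open CategoryTheory CategoryTheory.Limits Opposite TopologicalSpace AlgebraicGeometry

attribute [local instance] HasDerivedCategory.standard

namespace Groth.Agent.Lib.Helper5.QC

open Groth.Agent.Helper1 Helper5.KInj Groth.Agent.Lib.Helper5.MV
open Groth.Agent.Lib.Helper5.RestrTen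
open Groth.Agent.Lib.Helper5.LpullLib Groth.Agent.Helper3.KInjDer Groth.Agent.Lib.Helper5.RpushRes

variable {X S : Scheme.{u}} (a : X ⟶ S) [IsAffineHom a]
variable (E : CochainComplex X.Modules ℤ) (hE : ∀ i, (E.X i).IsQuasicoherent)

include hE in
theorem isIso_rpushUnit_of_isAffineHom [DCoh.HasRpush a] :
    IsIso ((rpushUnit a).app
      ((HomotopyCategory.quotient X.Modules (ComplexShape.up ℤ)).obj E)) := by
  haveI : EnoughInjectives X.Modules := Groth.Agent.S0485.result _ X.ringCatSheaf
  haveI : HasExt.{u} X.Modules := hasExt_of_enoughInjectives _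
  let s := holimLift (tI E) (tp E) (ta E) (ta_tp E)
  haveI : (holim (tI E) (tp E)).IsKInjective := isKInjective_holim _ _ (exists_section_tp E)
  haveI hs : QuasiIso s := by
    refine quasiIso_holimLift_of_famAcyc (testFam X) E detects_testFam (fun m => ?_)
    haveI := isQuasicoherent_homology_of_terms E hE m
    exact famAcyc_of_isQuasicoherent _
  haveI : IsIso (DerivedCategory.Q.map s) := (DerivedCategory.isIso_Q_map_iff_quasiIso _ s).2 hs
  haveI hs' : QuasiIso ((pushC a).map s) := quasiIso_pushC_holimLift a E hE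
  haveI : IsIso (DerivedCategory.Q.map ((pushC a).map s)) :=
    (DerivedCategory.isIso_Q_map_iff_quasiIso _ _).2 hs'
  let u := rpushUnit a
  let qs := (HomotopyCategory.quotient X.Modules (ComplexShape.up ℤ)).map s
  have hnat := u.naturality qs
  haveI h1 : IsIso (u.app ((HomotopyCategory.quotient X.Modules (ComplexShape.up ℤ)).obj
      (holim (tI E) (tp E)))) :=
    isIso_unit_app (DCoh.pushKh a) u (holim (tI E) (tp E))
  haveI h2 : IsIso ((DCoh.pushKh a).map qs) := by
    show IsIso (DerivedCategory.Q.map ((pushC a).map s))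
    infer_instance
  haveI h3 : IsIso ((DerivedCategory.Qh ⋙ DCoh.Rpush a).map qs) := by
    show IsIso ((DCoh.Rpush a).map (DerivedCategory.Q.map s))
    infer_instance
  have h4 : u.app ((HomotopyCategory.quotient X.Modules (ComplexShape.up ℤ)).obj E) =
      (DCoh.pushKh a).map qs ≫ u.app _ ≫ inv ((DerivedCategory.Qh ⋙ DCoh.Rpush a).map qs) := by
    rw [← Category.assoc, hnat, Category.assoc, IsIso.hom_inv_id, Category.comp_id]
  rw [h4]
  infer_instance

end Groth.Agent.Lib.Helper5.QC
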