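import Mathlib
import Groth.Prelude.Def_DDual2
import Groth.Agent.Lib.Helper1.TildeBC
import Groth.Agent.Lib.Helper5.QC.UnitAff

/-!
# `Rf_*` of `M^~` for `f = Spec φ` (helper5)
-/

set_option autoImplicit false
universe u
open CategoryTheory CategoryTheory.Limits Opposite TopologicalSpace AlgebraicGeometry

attribute [local instance] HasDerivedCategory.standard

namespace Groth.Agent.Lib.Helper5.QC

open Groth.Agent.Helper1 Groth.Agent.Lib.Helper5.MV
open Groth.Agent.Lib.Helper5.LpullLib Groth.Agent.Helper3.KInjDer Groth.Agent.Lib.Helper5.RpushRes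

section

variable {R S : CommRingCat.{u}} (φ : R ⟶ S)

/-- `Spec φ` with the form of source and target used by `tilde.functor` -/
noncomputable abbrev specMap' : Spec (CommRingCat.of S) ⟶ Spec (CommRingCat.of R) := Spec.map φ

instance : IsAffineHom (specMap' φ) := inferInstanceAs (IsAffineHom (Spec.map φ))

/-- the counit `Γ(N)^~ ⟶ N` whiskered to pushforwards of tilde modules -/
noncomputable def tildePushCounit :
    (tilde.functor S ⋙ Scheme.Modules.pushforward (specMap' φ)) ⋙
      (moduleSpecΓFunctor (R := R) ⋙ tilde.functor R) ⟶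
    (tilde.functor S ⋙ Scheme.Modules.pushforward (specMap' φ)) ⋙ 𝟭 _ :=
  Functor.whiskerLeft _ Scheme.Modules.fromTildeΓNatTrans

instance : IsIso (tildePushCounit φ) := by
  haveI : ∀ M, IsIso ((tildePushCounit φ).app M) := by
    intro M
    haveI : ((Scheme.Modules.pushforward (specMap' φ)).obj ((tilde.functor S).obj M)).IsQuasicoherent :=
      PushQc.isQuasicoherent_pushforward (specMap' φ) ((tilde.functor S).obj M)
    exact Scheme.Modules.isIso_fromTildeΓ_of_isQuasicoherent (R := R)
      ((Scheme.Modules.pushforward (specMap' φ)).obj ((tilde.functor S).obj M))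
  exact NatIso.isIso_of_isIso_app _

/-- `(Spec φ)_* (M^~) ≅ (M_R)^~`, functorially -/
noncomputable def tildePushIso :
    tilde.functor S ⋙ Scheme.Modules.pushforward (specMap' φ) ≅
      ModuleCat.restrictScalars φ.hom ⋙ tilde.functor R :=
  (Functor.rightUnitor _).symm ≪≫ (asIso (tildePushCounit φ)).symm ≪≫
    (Functor.associator _ _ _).symm ≪≫
    Functor.isoWhiskerRight
      (Functor.associator _ _ _ ≪≫
        Functor.isoWhiskerLeft (tilde.functor S) (TildeBC.gammaPushforwardIso φ) ≪≫
        (Functor.associator _ _ _).symm ≪≫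
        Functor.isoWhiskerRight (tilde.toTildeΓNatIso (R := S)).symm _ ≪≫
        Functor.leftUnitor _) (tilde.functor R)

/-- the same on complexes -/
noncomputable def tildePushCxIso :
    (tilde.functor S).mapHomologicalComplex (ComplexShape.up ℤ) ⋙ pushC (specMap' φ) ≅
      (ModuleCat.restrictScalars φ.hom).mapHomologicalComplex (ComplexShape.up ℤ) ⋙
        (tilde.functor R).mapHomologicalComplex (ComplexShape.up ℤ) :=
  NatIso.ofComponents
    (fun K => HomologicalComplex.Hom.isoOfComponents (fun i => (tildePushIso φ).app (K.X i))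
      (fun i j _ => ((tildePushIso φ).hom.naturality (K.d i j)).symm))
    (fun {K L} g => by
      apply HomologicalComplex.hom_ext
      intro i
      exact (tildePushIso φ).hom.naturality (g.f i))

end

section

variable {X Y : Scheme.{u}} (f : X ⟶ Y) [DCoh.HasRpush f]

/-- the unit `Q(f_* K) ⟶ Rf_*(Q K)` as a natural transformation on complexes -/
noncomputable def rpushθ : pushC f ⋙ DerivedCategory.Q ⟶ DerivedCategory.Q ⋙ DCoh.Rpush f where
  app K := (rpushUnit f).app ((HomotopyCategory.quotient _ _).obj K)
  naturality K L g := (rpushUnit f).naturality ((HomotopyCategory.quotient _ _).map g)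

end

section

variable {R S : CommRingCat.{u}} (φ : R ⟶ S) [DCoh.HasRpush (specMap' φ)]
  [PreservesFiniteLimits (tilde.functor R)] [PreservesFiniteLimits (tilde.functor S)]

noncomputable def tildeθ :
    (tilde.functor S).mapHomologicalComplex (ComplexShape.up ℤ) ⋙
      (pushC (specMap' φ) ⋙ DerivedCategory.Q) ⟶
    (tilde.functor S).mapHomologicalComplex (ComplexShape.up ℤ) ⋙
      (DerivedCategory.Q ⋙ DCoh.Rpush (specMap' φ)) :=
  Functor.whiskerLeft _ (rpushθ (specMap' φ))

instance : IsIso (tildeθ φ) := by
  haveI : ∀ K, IsIso ((tildeθ φ).app K) := by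
    intro K
    exact isIso_rpushUnit_of_isAffineHom (specMap' φ)
      (((tilde.functor S).mapHomologicalComplex (ComplexShape.up ℤ)).obj K)
      (fun i => inferInstanceAs (((tilde.functor S).obj (K.X i)).IsQuasicoherent))
  exact NatIso.isIso_of_isIso_app _

/-- the isomorphism before localization -/
noncomputable def tildeRpushIsoQ :
    DerivedCategory.Q ⋙ (DCoh.tildeD S ⋙ DCoh.Rpush (specMap' φ)) ≅
      DerivedCategory.Q ⋙ ((ModuleCat.restrictScalars φ.hom).mapDerivedCategory ⋙ DCoh.tildeD R) :=
  (Functor.associator _ _ _).symm ≪≫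
    Functor.isoWhiskerRight (tilde.functor S).mapDerivedCategoryFactors _ ≪≫
    Functor.associator _ _ _ ≪≫
    (asIso (tildeθ φ)).symm ≪≫
    (Functor.associator _ _ _).symm ≪≫
    Functor.isoWhiskerRight (tildePushCxIso φ) DerivedCategory.Q ≪≫
    Functor.associator _ _ _ ≪≫
    Functor.isoWhiskerLeft _ (tilde.functor R).mapDerivedCategoryFactors.symm ≪≫
    (Functor.associator _ _ _).symm ≪≫
    Functor.isoWhiskerRight (ModuleCat.restrictScalars φ.hom).mapDerivedCategoryFactors.symm _ ≪≫
    Functor.associator _ _ _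

/-- **`R(Spec φ)_* ∘ (-)^~ ≅ (-)^~ ∘ restriction of scalars`** on derived categories -/
noncomputable def tildeRpushIso :
    DCoh.tildeD S ⋙ DCoh.Rpush (specMap' φ) ≅
      (ModuleCat.restrictScalars φ.hom).mapDerivedCategory ⋙ DCoh.tildeD R :=
  Localization.liftNatIso DerivedCategory.Q
    (HomologicalComplex.quasiIso (ModuleCat.{u} S) (ComplexShape.up ℤ)) _ _ _ _ (tildeRpushIsoQ φ)

end

end Groth.Agent.Lib.Helper5.QC
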