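import Mathlib
import Groth.Agent.Lib.Helper3.RDTwo
import Groth.Agent.Lib.Helper5.QC.AbsHom
import Groth.Agent.Lib.Helper5.QC.SecF

/-!
# Complexes of objects acyclic for a left exact functor (helper5)

For a left exact additive functor `F` and the class `RAcyc F` of objects with vanishing higher
right derived functors: the class is adapted to `F`, and `F` preserves quasi-isomorphisms between
bounded below complexes with terms in this class.
-/

set_option autoImplicit false
universe w w' v v' u u'
open CategoryTheory CategoryTheory.Limits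

namespace Groth.Agent.Lib.Helper5.QC

open Groth.Agent.Helper3

section

variable {A : Type u} [Category.{v} A] [Abelian A] [HasDerivedCategory.{w} A] [EnoughInjectives A]
  {B : Type u'} [Category.{v'} B] [Abelian B] [HasDerivedCategory.{w'} B]
  (F : A ⥤ B) [F.Additive]

/-- objects acyclic for the right derived functors of `F` -/
def RAcyc (X : A) : Prop := ∀ i : ℕ, 0 < i → IsZero ((F.rightDerived i).obj X)

theorem rAcyc_of_injective (X : A) [Injective X] : RAcyc F X := by
  intro i hi
  obtain ⟨n, rfl⟩ : ∃ n, i = n + 1 := ⟨i - 1, by omega⟩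
  exact Functor.isZero_rightDerived_obj_injective_succ F n X

variable [PreservesFiniteLimits F]

theorem adapted_rAcyc : Adapted F (RAcyc F) where
  zero Z hZ := by
    haveI : Injective Z := ⟨fun {X Y} g f _ => ⟨0, hZ.eq_of_tgt _ _⟩⟩
    exact rAcyc_of_injective F Z
  epi S hS h₁ :=
    (RDTwo.shortExact_map F S hS
      (RDTwo.epi_HF_zero F S hS (((RDTwo.hAcyc_iff F _).2 h₁) 1 one_pos))).epi_g
  X₃ S hS h₁ h₂ := (RDTwo.two_of_three F S hS h₁ h₂).1
  X₂ S hS h₁ h₃ := (RDTwo.hAcyc_iff F _).1
    (RDTwo.hAcyc_X₂ F S hS ((RDTwo.hAcyc_iff F _).2 h₁) ((RDTwo.hAcyc_iff F _).2 h₃))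

omit [HasDerivedCategory.{w} A] [EnoughInjectives A] [HasDerivedCategory.{w'} B]
  [PreservesFiniteLimits F] in
theorem Adapted.biprod {P : A → Prop} (hP : Adapted F P) {X Y : A} (hX : P X) (hY : P Y) :
    P (X ⊞ Y) := by
  let S : ShortComplex A := ShortComplex.mk (biprod.inl : X ⟶ X ⊞ Y) biprod.snd (by simp)
  have hS : S.ShortExact := by
    refine ShortComplex.Splitting.shortExact (S := S)
      { r := biprod.fst
        s := biprod.inr
        f_r := by simp [S]
        s_g := by simp [S]
        id := by simp [S] }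
  exact hP.X₂ S hS hX hY

/-- `F` maps bounded below acyclic complexes of `F`-acyclic objects to acyclic complexes -/
theorem acyclic_map_of_rAcyc (C : CochainComplex A ℤ) (a : ℤ) [C.IsStrictlyGE a]
    (hX : ∀ i, RAcyc F (C.X i)) (hC : C.Acyclic) :
    ((F.mapHomologicalComplex (ComplexShape.up ℤ)).obj C).Acyclic := by
  intro j
  haveI := (cycles_mem_and_preserves C (adapted_rAcyc F) a hX
    (fun i => (adapted_rAcyc F).zero _ (hC i).isZero_homology) j).2
  have h1 : (C.sc j).Exact := hC j
  exact h1.map_of_preservesLeftHomologyOf F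

/-- `F` preserves quasi-isomorphisms between bounded below complexes of `F`-acyclic objects -/
theorem quasiIso_map_of_rAcyc {K L : CochainComplex A ℤ} (φ : K ⟶ L) (a : ℤ)
    [K.IsStrictlyGE a] [L.IsStrictlyGE a]
    (hK : ∀ i, RAcyc F (K.X i)) (hL : ∀ i, RAcyc F (L.X i)) (hφ : QuasiIso φ) :
    QuasiIso ((F.mapHomologicalComplex (ComplexShape.up ℤ)).map φ) := by
  haveI : HasDerivedCategory.{max u v} A := HasDerivedCategory.standard A
  haveI : HasDerivedCategory.{max u' v'} B := HasDerivedCategory.standard B
  rw [quasiIso_iff_acyclic_cone'] at hφ ⊢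
  haveI : (CochainComplex.mappingCone φ).IsStrictlyGE (a - 1) :=
    CochainComplex.isStrictlyGE_mappingCone φ a a (a - 1) (by omega) (by omega)
  have hX : ∀ i, RAcyc F ((CochainComplex.mappingCone φ).X i) := by
    intro i
    exact (adapted_rAcyc F).of_iso
      (HomologicalComplex.homotopyCofiber.XIsoBiprod φ i (i + 1) rfl).symm
      (Adapted.biprod F (adapted_rAcyc F) (hK (i + 1)) (hL i))
  have h1 := acyclic_map_of_rAcyc F _ (a - 1) hX hφ
  intro j
  rw [HomologicalComplex.exactAt_iff_isZero_homology]
  exact IsZero.of_iso ((h1 j).isZero_homology)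
    ((HomologicalComplex.homologyFunctor _ _ j).mapIso
      (CochainComplex.mappingCone.mapHomologicalComplexIso φ F).symm)

end

end Groth.Agent.Lib.Helper5.QC
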