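import Mathlib
import Groth.Agent.Lib.Helper5.QC.AffPush
import Groth.Agent.Lib.Helper5.QC.RpushQC
import Groth.Agent.Lib.Helper5.MV.RpushTri
import Groth.Agent.Lib.Helper5.Stalk.RpushSupp
import Groth.Agent.Lib.Helper5.Perf.LocalCoh
import Groth.Agent.Lib.Helper1.GlobGen

/-!
# `Rf_*` is conservative on `D_QCoh` for an affine morphism `f` (helper5)
-/

set_option autoImplicit false
universe u
open CategoryTheory CategoryTheory.Limits Opposite TopologicalSpace AlgebraicGeometry
open Pretriangulated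

attribute [local instance] HasDerivedCategory.standard

namespace Groth.Agent.Lib.Helper5.QC

open Groth.Agent.Helper1 Helper5.KInj Groth.Agent.Lib.Helper5.MV
open Groth.Agent.Lib.Helper5.RestrTen
open Groth.Agent.Lib.Helper5.LpullLib Groth.Agent.Helper3.KInjDer Groth.Agent.Lib.Helper5.RpushRes

/-- a quasi-coherent module on an affine scheme without nonzero global sections is zero -/
theorem isZero_of_subsingleton_top {U : Scheme.{u}} [IsAffine U] (M : U.Modules)
    [M.IsQuasicoherent] (h : Subsingleton Γ(M, ⊤)) : IsZero M := by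
  have hg : Epi (GlobGen.gen M) :=
    (GlobGen.isGloballyGenerated_iff M).1 (GlobGen.isGloballyGenerated_of_isQuasiAffine M)
  have h0 : GlobGen.gen M = 0 := by
    apply M.freeHomEquiv.injective
    funext t
    apply GlobGen.sections_ext_top
    exact h.elim _ _
  exact @IsZero.of_epi_eq_zero _ _ _ _ _ (GlobGen.gen M) hg h0

variable {X : Scheme.{u}}

section Sec

variable (K : CochainComplex X.Modules ℤ) (hK : ∀ i, (K.X i).IsQuasicoherent)

include hK in
theorem isQuasicoherent_cycles (n : ℤ) : (K.cycles n).IsQuasicoherent := by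
  haveI : (K.sc n).X₂.IsQuasicoherent := hK _
  haveI : (K.sc n).X₃.IsQuasicoherent := hK _
  haveI : (kernel (K.sc n).g).IsQuasicoherent := QcAbel.isQuasicoherent_kernel _
  exact QcAbel.isQuasicoherent_of_iso (K.sc n).cyclesIsoKernel.symm

include hK in
/-- sections over an affine open preserve the homology of a complex with quasi-coherent terms -/
theorem preservesLeftHomologyOf_secF (V : X.Opens) (hV : IsAffineOpen V) (j : ℤ) :
    (secF V).PreservesLeftHomologyOf (K.sc j) := by
  haveI : EnoughInjectives X.Modules := Groth.Agent.S0485.result _ X.ringCatSheaf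
  haveI : HasExt.{u} X.Modules := hasExt_of_enoughInjectives _
  refine (cycles_step K (adapted_secF V hV) j ?_ ?_ ?_).2
  · haveI := hK ((ComplexShape.up ℤ).prev j)
    exact famAcyc_of_isQuasicoherent _
  · haveI := isQuasicoherent_cycles K hK ((ComplexShape.up ℤ).prev j)
    exact famAcyc_of_isQuasicoherent _
  · haveI := isQuasicoherent_homology_of_terms K hK j
    exact famAcyc_of_isQuasicoherent _

include hK in
/-- exactness of a complex with quasi-coherent terms passes to sections over affine opens -/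
theorem exactAt_secF_of_exactAt (V : X.Opens) (hV : IsAffineOpen V) (j : ℤ) (h : K.ExactAt j) :
    (((secF V).mapHomologicalComplex (ComplexShape.up ℤ)).obj K).ExactAt j := by
  haveI := preservesLeftHomologyOf_secF K hK V hV j
  have h1 : (K.sc j).Exact := h
  exact h1.map_of_preservesLeftHomologyOf (secF V)

include hK in
/-- on an affine scheme exactness of a complex with quasi-coherent terms is detected by
global sections -/
theorem exactAt_of_exactAt_secF_top [IsAffine X] (W : X.Opens) (hW : W = ⊤) (j : ℤ)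
    (h : (((secF W).mapHomologicalComplex (ComplexShape.up ℤ)).obj K).ExactAt j) :
    K.ExactAt j := by
  subst hW
  haveI := preservesLeftHomologyOf_secF K hK ⊤ (isAffineOpen_top X) j
  haveI := isQuasicoherent_homology_of_terms K hK j
  rw [HomologicalComplex.exactAt_iff_isZero_homology]
  apply isZero_of_subsingleton_top
  have h1 : ((K.sc j).map (secF ⊤)).Exact := h
  have h2 : IsZero ((secF (⊤ : X.Opens)).obj (K.sc j).homology) := by
    have h3 := (ShortComplex.exact_iff_isZero_homology _).1 h1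
    exact h3.of_iso ((K.sc j).mapHomologyIso (secF ⊤)).symm
  have h4 : IsZero (AddCommGrpCat.of Γ(K.homology j, ⊤)) := h2
  exact AddCommGrpCat.subsingleton_of_isZero h4

end Sec

/-- the local statement -/
theorem isZero_of_isZero_rpush_affine {U V : Scheme.{u}} [IsAffine U] [IsAffine V] (g : U ⟶ V)
    [IsAffineHom g] [DCoh.HasRpush g] (C : DCoh.D U) (hC : DCoh.IsQCohD C)
    (h : IsZero ((DCoh.Rpush g).obj C)) : IsZero C := by
  obtain ⟨E, hE, ⟨e⟩⟩ := exists_qcCx_iso U C hC
  obtain ⟨e'⟩ := nonempty_rpush_iso_pushC g E hE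
  have h1 : IsZero (DerivedCategory.Q.obj ((pushC g).obj E)) :=
    (h.of_iso ((DCoh.Rpush g).mapIso e).symm).of_iso e'.symm
  rw [isZero_Q_iff_acyclic'] at h1
  refine IsZero.of_iso ?_ e
  rw [isZero_Q_iff_acyclic']
  intro j
  have hq : ∀ n, (((pushC g).obj E).X n).IsQuasicoherent := by
    intro n
    haveI := hE n
    exact PushQc.isQuasicoherent_pushforward g (E.X n)
  have h2 := exactAt_secF_of_exactAt _ hq ⊤ (isAffineOpen_top V) j (h1 j)
  exact exactAt_of_exactAt_secF_top E hE (g ⁻¹ᵁ ⊤) rfl j h2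

/-- **`Rf_*` detects zero objects of `D_QCoh` for an affine morphism `f`** -/
theorem isZero_of_isZero_rpush {S : Scheme.{u}} (f : X ⟶ S) [IsAffineHom f] [DCoh.HasRpush f]
    (C : DCoh.D X) (hC : DCoh.IsQCohD C) (h : IsZero ((DCoh.Rpush f).obj C)) : IsZero C := by
  apply Groth.Agent.Lib.Helper5.RpushSupp.isZero_of_forall_isZero_HD
  intro i
  apply Groth.Agent.Lib.Helper5.LocalCoh.isZero_of_locally
  intro x
  obtain ⟨V, hV, hxV⟩ : ∃ V : S.Opens, IsAffineOpen V ∧ f.base x ∈ V := by
    obtain ⟨_, ⟨V, hV, rfl⟩, hxV, -⟩ := (S.isBasis_affineOpens.exists_subset_of_mem_open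
      (Set.mem_univ (f.base x)) isOpen_univ)
    exact ⟨V, hV, hxV⟩
  refine ⟨f ⁻¹ᵁ V, hxV, ?_⟩
  haveI : IsAffine (V : Scheme.{u}) := hV
  haveI : IsAffine ((f ⁻¹ᵁ V : X.Opens) : Scheme.{u}) := hV.preimage f
  haveI : IsAffineHom (f ∣_ V) := MorphismProperty.of_isPullback (isPullback_morphismRestrict f V).flip inferInstance
  haveI : DCoh.HasRpush (f ∣_ V) := hasRightDerivedFunctor (DCoh.pushKh (f ∣_ V))
  have h1 : IsZero ((DCoh.Rpush (f ∣_ V)).obj ((DCoh.restrictD (f ⁻¹ᵁ V).ι).obj C)) :=
    IsZero.of_iso ((DCoh.restrictD V.ι).map_isZero h) ((rpushRestrictIso f V).app C).symm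
  have h2 := isZero_of_isZero_rpush_affine (f ∣_ V) _ (isQCohD_restrictD (f ⁻¹ᵁ V) C hC) h1
  exact IsZero.of_iso ((DerivedCategory.homologyFunctor _ i).map_isZero h2)
    (Groth.Agent.Lib.Helper5.RpushSupp.hdRestrictDIso C (f ⁻¹ᵁ V) i)

/-- **`Rf_*` is conservative on `D_QCoh` for an affine morphism `f`** -/
theorem isIso_of_isIso_rpush {S : Scheme.{u}} (f : X ⟶ S) [IsAffineHom f] [DCoh.HasRpush f]
    {E F : DCoh.D X} (hE : DCoh.IsQCohD E) (hF : DCoh.IsQCohD F) (α : E ⟶ F)
    (hα : IsIso ((DCoh.Rpush f).map α)) : IsIso α := by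
  obtain ⟨C, b, c, hT⟩ := Pretriangulated.distinguished_cocone_triangle α
  obtain ⟨c', hT'⟩ := exists_distinguished_rpush f _ hT
  have h1 : IsZero ((DCoh.Rpush f).obj C) := (Triangle.isZero₃_iff_isIso₁ _ hT').2 hα
  have hC : DCoh.IsQCohD C := isQCohD_of_triangle_right _ hT hE hF
  have h2 := isZero_of_isZero_rpush f C hC h1
  exact (Triangle.isZero₃_iff_isIso₁ _ hT).1 h2

end Groth.Agent.Lib.Helper5.QC
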