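import Mathlib
import Groth.Agent.Lib.Helper5.QC.RAcyc
import Groth.Agent.Lib.Helper5.QC.UnitAff
import Groth.Agent.Lib.Helper5.QC.RpushPC
import Groth.Agent.Lib.Helper5.QC.AffConserv
import Groth.Agent.Lib.Helper5.Misc.StupidTruncH
import Groth.Agent.Lib.Helper5.Stalk.RpushSupp

/-!
# The unit `f_* F ⟶ Rf_* F` for a complex of quasi-coherent `f_*`-acyclic modules (helper5)
-/

set_option autoImplicit false
universe u
open CategoryTheory CategoryTheory.Limits Opposite TopologicalSpace AlgebraicGeometry
open Pretriangulated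

attribute [local instance] HasDerivedCategory.standard

namespace Groth.Agent.Lib.Helper5.QC

open Groth.Agent.Helper1 Helper5.KInj Groth.Agent.Lib.Helper5.MV
open Groth.Agent.Lib.Helper5.RestrTen
open Groth.Agent.Lib.Helper5.LpullLib Groth.Agent.Helper3.KInjDer Groth.Agent.Lib.Helper5.RpushRes
open Groth.Agent.Lib.Helper5.Misc.StupidTrunc Groth.Agent.Lib.Helper5.RpushSupp
open DerivedCategory.HomologySequence

section Abstract

variable {A : Type*} [Category A] [Abelian A] [HasDerivedCategory A]

lemma isIso_HQ_map {K L : CochainComplex A ℤ} (ψ : K ⟶ L) (i : ℤ)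
    (h : IsIso (HomologicalComplex.homologyMap ψ i)) :
    IsIso ((DerivedCategory.homologyFunctor A i).map (DerivedCategory.Q.map ψ)) := by
  have h' : IsIso ((HomologicalComplex.homologyFunctor A (ComplexShape.up ℤ) i).map ψ) := h
  exact (NatIso.isIso_map_iff (DerivedCategory.homologyFunctorFactors A i) ψ).2 h'

lemma epi_HQ_map {K L : CochainComplex A ℤ} (ψ : K ⟶ L) (i : ℤ)
    (h : Epi (HomologicalComplex.homologyMap ψ i)) :
    Epi ((DerivedCategory.homologyFunctor A i).map (DerivedCategory.Q.map ψ)) := by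
  let e := DerivedCategory.homologyFunctorFactors A i
  have hn : (DerivedCategory.Q ⋙ DerivedCategory.homologyFunctor A i).map ψ =
      e.hom.app K ≫ (HomologicalComplex.homologyFunctor A (ComplexShape.up ℤ) i).map ψ ≫
        e.inv.app L := by
    rw [← Category.assoc, ← e.hom.naturality ψ, Category.assoc, Iso.hom_inv_id_app,
      Category.comp_id]
  haveI h' : Epi ((HomologicalComplex.homologyFunctor A (ComplexShape.up ℤ) i).map ψ) := h
  show Epi ((DerivedCategory.Q ⋙ DerivedCategory.homologyFunctor A i).map ψ)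
  rw [hn]
  infer_instance

lemma quasiIsoAt_of_isIso_f {K L : CochainComplex A ℤ} (ψ : K ⟶ L) (j : ℤ)
    (h : ∀ k, j - 1 ≤ k → IsIso (ψ.f k)) : QuasiIsoAt ψ j := by
  rw [quasiIsoAt_iff' _ (j - 1) j (j + 1) (by simp) (by simp)]
  haveI : IsIso ((HomologicalComplex.shortComplexFunctor' A (ComplexShape.up ℤ) (j - 1) j
      (j + 1)).map ψ).τ₁ := h _ (by omega)
  haveI : IsIso ((HomologicalComplex.shortComplexFunctor' A (ComplexShape.up ℤ) (j - 1) j
      (j + 1)).map ψ).τ₂ := h _ (by omega)
  haveI : IsIso ((HomologicalComplex.shortComplexFunctor' A (ComplexShape.up ℤ) (j - 1) j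
      (j + 1)).map ψ).τ₃ := h _ (by omega)
  exact ShortComplex.quasiIso_of_epi_of_isIso_of_mono _

end Abstract

variable {X S : Scheme.{u}}

/-- being an isomorphism of modules is local -/
theorem isIso_of_locally {M N : S.Modules} (g : M ⟶ N)
    (h : ∀ s : S, ∃ V : S.Opens, s ∈ V ∧ IsIso ((Scheme.Modules.restrictFunctor V.ι).map g)) :
    IsIso g := by
  have hk : IsZero (kernel g) := by
    apply Groth.Agent.Lib.Helper5.LocalCoh.isZero_of_locally
    intro s
    obtain ⟨V, hs, hV⟩ := h s
    refine ⟨V, hs, ?_⟩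
    haveI := hV
    exact IsZero.of_iso (isZero_kernel_of_mono ((Scheme.Modules.restrictFunctor V.ι).map g))
      (PreservesKernel.iso (Scheme.Modules.restrictFunctor V.ι) g)
  have hc : IsZero (cokernel g) := by
    apply Groth.Agent.Lib.Helper5.LocalCoh.isZero_of_locally
    intro s
    obtain ⟨V, hs, hV⟩ := h s
    refine ⟨V, hs, ?_⟩
    haveI := hV
    exact IsZero.of_iso (isZero_cokernel_of_epi ((Scheme.Modules.restrictFunctor V.ι).map g))
      (PreservesCokernel.iso (Scheme.Modules.restrictFunctor V.ι) g)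
  haveI : Mono g := by
    apply Preadditive.mono_of_cancel_zero
    intro P t ht
    rw [← kernel.lift_ι g t ht, hk.eq_of_tgt (kernel.lift g t ht) 0, zero_comp]
  haveI : Epi g := by
    apply Preadditive.epi_of_cancel_zero
    intro P t ht
    rw [← cokernel.π_desc g t ht, hc.eq_of_src (cokernel.desc g t ht) 0, comp_zero]
  exact isIso_of_mono_of_epi g

/-- local bound for the cohomology of `Rf_*` on `D_QCoh^{≤ c}` -/
theorem exists_bound_restrict (f : X ⟶ S) [QuasiCompact f] [QuasiSeparated f] [DCoh.HasRpush f]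
    (V : S.Opens) (hV : IsAffineOpen V) :
    ∃ N : ℤ, ∀ (C : DCoh.D X) (c : ℤ), DCoh.IsQCohD C → C.IsLE c → ∀ m : ℤ, N + c ≤ m →
      IsZero ((DCoh.HD ((DCoh.Rpush f).obj C) m).restrict V.ι) := by
  haveI : IsAffine (V : Scheme.{u}) := hV
  haveI : DCoh.HasRpush (f ∣_ V) := hasRightDerivedFunctor (DCoh.pushKh (f ∣_ V))
  obtain ⟨N, hN⟩ := exists_bound_shift (f ∣_ V)
  refine ⟨N, fun C c hC hc m hm => ?_⟩
  haveI := hc
  haveI := isLE_restrictD (f ⁻¹ᵁ V) C c
  have h1 := hN ((DCoh.restrictD (f ⁻¹ᵁ V).ι).obj C) c (isQCohD_restrictD _ C hC) inferInstance m hm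
  exact IsZero.of_iso h1 (hdRestrictDIso _ V m ≪≫
    (DerivedCategory.homologyFunctor _ m).mapIso ((rpushRestrictIso f V).app C))

section Unit

variable (f : X ⟶ S) [DCoh.HasRpush f] [HasInjectiveResolutions X.Modules]

/-- the bounded below case -/
theorem isIso_rpushUnit_of_bddBelow (F : CochainComplex X.Modules ℤ) (a : ℤ) [F.IsStrictlyGE a]
    (hac : ∀ (n : ℤ) (i : ℕ), 0 < i →
      IsZero (((Scheme.Modules.pushforward f).rightDerived i).obj (F.X n))) :
    IsIso ((rpushUnit f).app ((HomotopyCategory.quotient X.Modules (ComplexShape.up ℤ)).obj F)) := by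
  haveI : EnoughInjectives X.Modules := Groth.Agent.S0485.result _ X.ringCatSheaf
  obtain ⟨L, s, hs, hL, hLa⟩ :=
    CochainComplex.Plus.modelCategoryQuillen.exists_quasiIso_injective F a
  haveI := hL
  haveI := hLa
  haveI : L.IsKInjective := CochainComplex.isKInjective_of_injective L a
  have hs' : QuasiIso ((pushC f).map s) :=
    quasiIso_map_of_rAcyc (Scheme.Modules.pushforward f) s a (fun n => hac n)
      (fun n => rAcyc_of_injective _ (L.X n)) hs
  haveI : IsIso (DerivedCategory.Q.map s) := (DerivedCategory.isIso_Q_map_iff_quasiIso _ s).2 hs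
  haveI : IsIso (DerivedCategory.Q.map ((pushC f).map s)) :=
    (DerivedCategory.isIso_Q_map_iff_quasiIso _ _).2 hs'
  let u := rpushUnit f
  let qs := (HomotopyCategory.quotient X.Modules (ComplexShape.up ℤ)).map s
  have hnat := u.naturality qs
  haveI h1 : IsIso (u.app ((HomotopyCategory.quotient X.Modules (ComplexShape.up ℤ)).obj L)) :=
    isIso_unit_app (DCoh.pushKh f) u L
  haveI h2 : IsIso ((DCoh.pushKh f).map qs) := by
    show IsIso (DerivedCategory.Q.map ((pushC f).map s))
    infer_instance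
  haveI h3 : IsIso ((DerivedCategory.Qh ⋙ DCoh.Rpush f).map qs) := by
    show IsIso ((DCoh.Rpush f).map (DerivedCategory.Q.map s))
    infer_instance
  have h4 : u.app ((HomotopyCategory.quotient X.Modules (ComplexShape.up ℤ)).obj F) =
      (DCoh.pushKh f).map qs ≫ u.app _ ≫ inv ((DerivedCategory.Qh ⋙ DCoh.Rpush f).map qs) := by
    rw [← Category.assoc, hnat, Category.assoc, IsIso.hom_inv_id, Category.comp_id]
  rw [h4]
  infer_instance

/-- **the unit `Q(f_* F) ⟶ Rf_*(Q F)` is an isomorphism for a complex `F` of quasi-coherent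
`f_*`-acyclic modules** -/
theorem isIso_rpushUnit_of_acyc [QuasiCompact f] [QuasiSeparated f]
    (F : CochainComplex X.Modules ℤ) (hq : ∀ n : ℤ, (F.X n).IsQuasicoherent)
    (hac : ∀ (n : ℤ) (i : ℕ), 0 < i →
      IsZero (((Scheme.Modules.pushforward f).rightDerived i).obj (F.X n))) :
    IsIso ((rpushUnit f).app ((HomotopyCategory.quotient X.Modules (ComplexShape.up ℤ)).obj F)) := by
  haveI : EnoughInjectives X.Modules := Groth.Agent.S0485.result _ X.ringCatSheaf
  rw [DerivedCategory.isIso_iff]
  intro i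
  apply isIso_of_locally
  intro s
  obtain ⟨V, hV, hsV⟩ : ∃ V : S.Opens, IsAffineOpen V ∧ s ∈ V := by
    obtain ⟨_, ⟨V, hV, rfl⟩, hxV, -⟩ := (S.isBasis_affineOpens.exists_subset_of_mem_open
      (Set.mem_univ s) isOpen_univ)
    exact ⟨V, hV, hxV⟩
  refine ⟨V, hsV, ?_⟩
  obtain ⟨N, hN⟩ := exists_bound_restrict f V hV
  let n : ℤ := min (i - N) (i - 1)
  have hn1 : n ≤ i - N := min_le_left _ _
  have hn2 : n ≤ i - 1 := min_le_right _ _
  let σ : CochainComplex X.Modules ℤ := sigmaGE F n
  let a : σ ⟶ F := ιGE F n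
  haveI : σ.IsStrictlyGE n := by
    rw [CochainComplex.isStrictlyGE_iff]
    intro j hj
    exact isZero_sigmaGE_X F hj
  have hσiso : ∀ j, n ≤ j → IsIso (a.f j) := fun j hj => isIso_ιGE_f F hj
  have hσq : ∀ j, (σ.X j).IsQuasicoherent := by
    intro j
    by_cases hj : n ≤ j
    · haveI := hσiso j hj
      haveI := hq j
      exact QcAbel.isQuasicoherent_of_iso (asIso (a.f j)).symm
    · exact QcAbel.isQuasicoherent_of_isZero (isZero_sigmaGE_X F (by omega))
  have hσac : ∀ (j : ℤ) (k : ℕ), 0 < k →
      IsZero (((Scheme.Modules.pushforward f).rightDerived k).obj (σ.X j)) := by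
    intro j k hk
    by_cases hj : n ≤ j
    · haveI := hσiso j hj
      exact IsZero.of_iso (hac j k hk)
        (((Scheme.Modules.pushforward f).rightDerived k).mapIso (asIso (a.f j)))
    · have hz : IsZero (σ.X j) := isZero_sigmaGE_X F (by omega)
      haveI : Injective (σ.X j) := ⟨fun {X Y} g f _ => ⟨0, hz.eq_of_tgt _ _⟩⟩
      exact rAcyc_of_injective (Scheme.Modules.pushforward f) (σ.X j) k hk
  haveI hσu := isIso_rpushUnit_of_bddBelow f σ n hσac
  have hnat := (rpushUnit f).naturality
    ((HomotopyCategory.quotient X.Modules (ComplexShape.up ℤ)).map a)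
  let uF : DerivedCategory.Q.obj ((pushC f).obj F) ⟶ (DCoh.Rpush f).obj (DerivedCategory.Q.obj F) :=
    (rpushUnit f).app ((HomotopyCategory.quotient X.Modules (ComplexShape.up ℤ)).obj F)
  let uσ : DerivedCategory.Q.obj ((pushC f).obj σ) ⟶ (DCoh.Rpush f).obj (DerivedCategory.Q.obj σ) :=
    (rpushUnit f).app ((HomotopyCategory.quotient X.Modules (ComplexShape.up ℤ)).obj σ)
  haveI : IsIso uσ := hσu
  let A1 : DerivedCategory.Q.obj ((pushC f).obj σ) ⟶ DerivedCategory.Q.obj ((pushC f).obj F) :=
    DerivedCategory.Q.map ((pushC f).map a)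
  let B1 : (DCoh.Rpush f).obj (DerivedCategory.Q.obj σ) ⟶
      (DCoh.Rpush f).obj (DerivedCategory.Q.obj F) := (DCoh.Rpush f).map (DerivedCategory.Q.map a)
  have hsq : A1 ≫ uF = uσ ≫ B1 := hnat
  -- `H^i(A1)` is an isomorphism
  haveI hA1 : IsIso ((DerivedCategory.homologyFunctor S.Modules i).map A1) := by
    apply isIso_HQ_map
    rw [← quasiIsoAt_iff_isIso_homologyMap]
    apply quasiIsoAt_of_isIso_f
    intro k hk
    haveI := hσiso k (by omega)
    exact inferInstanceAs (IsIso ((Scheme.Modules.pushforward f).map (a.f k)))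
  -- the cone of `Q a`
  obtain ⟨C, b, c, hT⟩ := Pretriangulated.distinguished_cocone_triangle (DerivedCategory.Q.map a)
  have hσQ : DCoh.IsQCohD (DerivedCategory.Q.obj σ) :=
    (isQCohD_Q_iff σ).2 (fun j => isQuasicoherent_homology_of_terms σ hσq j)
  have hFQ : DCoh.IsQCohD (DerivedCategory.Q.obj F) :=
    (isQCohD_Q_iff F).2 (fun j => isQuasicoherent_homology_of_terms F hq j)
  have hCq : DCoh.IsQCohD C := isQCohD_of_triangle_right _ hT hσQ hFQ
  have hCle : C.IsLE (n - 1) := by
    rw [DerivedCategory.isLE_iff]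
    intro j hj
    haveI hepi : Epi ((DerivedCategory.homologyFunctor X.Modules j).map
        (DerivedCategory.Q.map a)) := by
      apply epi_HQ_map
      by_cases hjn : j = n
      · rw [hjn]
        exact epi_homologyMap_ιGE F n
      · haveI := isIso_homologyMap_ιGE F n j (by omega)
        infer_instance
    haveI hmono : Mono ((DerivedCategory.homologyFunctor X.Modules (j + 1)).map
        (DerivedCategory.Q.map a)) := by
      haveI := isIso_HQ_map a (j + 1) (isIso_homologyMap_ιGE F n (j + 1) (by omega))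
      infer_instance
    have e2 := exact₂ _ hT j
    have e3 := exact₃ _ hT j (j + 1) rfl
    have e1 := exact₁ _ hT j (j + 1) rfl
    have hb0 : (DerivedCategory.homologyFunctor X.Modules j).map b = 0 := by
      have hz : (DerivedCategory.homologyFunctor X.Modules j).map (DerivedCategory.Q.map a) ≫
          (DerivedCategory.homologyFunctor X.Modules j).map b = 0 := by
        rw [← Functor.map_comp]
        have h12 : DerivedCategory.Q.map a ≫ b = 0 := comp_distTriang_mor_zero₁₂ _ hT
        rw [h12, Functor.map_zero]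
      exact (cancel_epi ((DerivedCategory.homologyFunctor X.Modules j).map
        (DerivedCategory.Q.map a))).1 (by rw [comp_zero]; exact hz)
    have hδ0 : δ (Triangle.mk (DerivedCategory.Q.map a) b c) j (j + 1) rfl = 0 := by
      have hz : δ (Triangle.mk (DerivedCategory.Q.map a) b c) j (j + 1) rfl ≫
          (DerivedCategory.homologyFunctor X.Modules (j + 1)).map (DerivedCategory.Q.map a) = 0 :=
        δ_comp _ hT j (j + 1) rfl
      exact (cancel_mono ((DerivedCategory.homologyFunctor X.Modules (j + 1)).map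
        (DerivedCategory.Q.map a))).1 (hz.trans zero_comp.symm)
    exact e3.isZero_X₂ hb0 hδ0
  -- the image triangle
  obtain ⟨c', hT'⟩ := exists_distinguished_rpush f _ hT
  have h0 : IsZero ((DCoh.HD ((DCoh.Rpush f).obj C) (i - 1)).restrict V.ι) :=
    hN C (n - 1) hCq hCle (i - 1) (by omega)
  have h1 : IsZero ((DCoh.HD ((DCoh.Rpush f).obj C) i).restrict V.ι) :=
    hN C (n - 1) hCq hCle i (by omega)
  let R := Scheme.Modules.restrictFunctor V.ι
  haveI hB1 : IsIso (R.map ((DerivedCategory.homologyFunctor S.Modules i).map B1)) := by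
    have e1 := (exact₁ _ hT' (i - 1) i (by omega)).map R
    have e2 := (exact₂ _ hT' i).map R
    haveI : Mono (R.map ((DerivedCategory.homologyFunctor S.Modules i).map B1)) :=
      e1.mono_g (h0.eq_of_src _ _)
    haveI : Epi (R.map ((DerivedCategory.homologyFunctor S.Modules i).map B1)) :=
      e2.epi_f (h1.eq_of_tgt _ _)
    exact isIso_of_mono_of_epi _
  have h5 : (DerivedCategory.homologyFunctor S.Modules i).map uF =
      inv ((DerivedCategory.homologyFunctor S.Modules i).map A1) ≫
        (DerivedCategory.homologyFunctor S.Modules i).map uσ ≫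
        (DerivedCategory.homologyFunctor S.Modules i).map B1 := by
    rw [IsIso.eq_inv_comp, ← Functor.map_comp, ← Functor.map_comp, hsq]
  show IsIso (R.map ((DerivedCategory.homologyFunctor S.Modules i).map uF))
  rw [h5, Functor.map_comp, Functor.map_comp]
  infer_instance

end Unit

end Groth.Agent.Lib.Helper5.QC
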