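import Mathlib
import Groth.Prelude.Def_DCoh2
import Groth.Agent.Lib.Helper3.DCoprod
import Groth.Agent.Lib.Helper5.QC.AffColim
import Groth.Agent.Lib.Helper5.QC.LTenQC
import Groth.Agent.Lib.Helper5.Stalk.LpullAdj

/-!
# Coproducts in `D_QCoh` (helper5)
-/

set_option autoImplicit false
universe u v w
open CategoryTheory CategoryTheory.Limits Opposite TopologicalSpace AlgebraicGeometry

attribute [local instance] HasDerivedCategory.standard

namespace Groth.Agent.Lib.Helper5.QC

open Groth.Agent.Helper1 Groth.Agent.Helper3.DCoprod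

section Abstract

variable {A : Type u} [Category.{v} A] [Abelian A] {J : Type w}
  [HasColimitsOfShape (Discrete J) A] [HasExactColimitsOfShape (Discrete J) A]

/-- the homology of the family complex in the functor category, evaluated -/
noncomputable def famHomologyIso (K : J → CochainComplex A ℤ) (i : ℤ) :
    (famCx K).homology i ≅ Discrete.functor (fun j => (K j).homology i) :=
  Discrete.natIso (fun j =>
    (((famCx K).sc i).mapHomologyIso ((evaluation (Discrete J) A).obj j)).symm ≪≫
      (Iso.refl _ : (((famCx K).sc i).map ((evaluation (Discrete J) A).obj j)).homology ≅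
        ((K j.as).sc i).homology))

/-- homology commutes with exact coproducts -/
noncomputable def homologyCoprodIso (K : J → CochainComplex A ℤ) (i : ℤ) :
    (cK K).homology i ≅ ∐ fun j => (K j).homology i :=
  (HomologicalComplex.homologyFunctor A (ComplexShape.up ℤ) i).mapIso (colimIso K).symm ≪≫
    ((famCx K).sc i).mapHomologyIso (colim : (Discrete J ⥤ A) ⥤ A) ≪≫
    (colim : (Discrete J ⥤ A) ⥤ A).mapIso (famHomologyIso K i)

end Abstract

variable {X : Scheme.{u}}

/-- a coproduct of quasi-coherent modules is quasi-coherent -/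
theorem isQuasicoherent_sigma {ι : Type u} (f : ι → X.Modules)
    (hf : ∀ i, (f i).IsQuasicoherent) : (∐ f).IsQuasicoherent := by
  refine QCohLib.isQuasicoherent_of_affine_charts _ (I := X.affineOpens)
    (fun V => Γ(X, V.1)) (fun V => V.2.fromSpec) ?_ ?_
  · apply le_antisymm le_top
    intro y _
    obtain ⟨_, ⟨W, hW, rfl⟩, hyW, -⟩ := X.isBasis_affineOpens.exists_subset_of_mem_open
      (Set.mem_univ y) isOpen_univ
    refine Opens.mem_iSup.2 ⟨⟨W, hW⟩, ?_⟩
    rw [IsAffineOpen.opensRange_fromSpec]
    exact hyW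
  · rintro ⟨V, hV⟩
    haveI : (Scheme.Modules.restrictFunctor hV.fromSpec).IsLeftAdjoint :=
      ⟨_, ⟨(Scheme.Modules.pullbackPushforwardAdjunction hV.fromSpec).ofNatIsoLeft
        (Scheme.Modules.restrictFunctorIsoPullback hV.fromSpec).symm⟩⟩
    have e := PreservesCoproduct.iso (Scheme.Modules.restrictFunctor hV.fromSpec) f
    haveI : ∀ i, ((Scheme.Modules.restrictFunctor hV.fromSpec).obj (f i)).IsQuasicoherent :=
      fun i => by haveI := hf i; infer_instance
    haveI : (∐ fun i => (Scheme.Modules.restrictFunctor hV.fromSpec).obj (f i)).IsQuasicoherent :=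
      isQuasicoherent_sigma_affine (R := Γ(X, V)) _ (fun i => inferInstance)
    haveI : ((∐ f).restrict hV.fromSpec).IsQuasicoherent :=
      QcAbel.isQuasicoherent_of_iso e.symm
    infer_instance

/-- **coproducts of objects of `D_QCoh` are in `D_QCoh`** -/
theorem isQCohD_sigma {ι : Type u} (K : ι → DCoh.D X) (hK : ∀ i, DCoh.IsQCohD (K i))
    [HasCoproduct K] : DCoh.IsQCohD (∐ K) := by
  haveI : HasExactColimitsOfShape (Discrete ι) X.Modules := by
    haveI : HasFiniteBiproducts X.Modules := HasFiniteBiproducts.of_hasFiniteProducts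
    have ab4 : AB4OfSize.{u} X.Modules := AB4.of_AB5 _
    exact ab4.ofShape ι
  let K₀ : ι → CochainComplex X.Modules ℤ := fun j => DerivedCategory.Q.objPreimage (K j)
  let eK : ∀ j, DerivedCategory.Q.obj (K₀ j) ≅ K j :=
    fun j => DerivedCategory.Q.objObjPreimageIso (K j)
  haveI : HasCoproduct (fun j => DerivedCategory.Q.obj (K₀ j)) :=
    ⟨⟨⟨_, isColimitCofan K₀⟩⟩⟩
  have e : ∐ K ≅ DerivedCategory.Q.obj (cK K₀) :=
    (HasColimit.isoOfNatIso (Discrete.natIso (fun j => eK j.as))).symm ≪≫
      IsColimit.coconePointUniqueUpToIso (colimit.isColimit _) (isColimitCofan K₀)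
  refine isQCohD_of_iso e.symm ?_
  rw [isQCohD_Q_iff]
  intro i
  haveI : ∀ j, ((K₀ j).homology i).IsQuasicoherent := fun j =>
    (isQCohD_Q_iff (K₀ j)).1 (isQCohD_of_iso (eK j).symm (hK j)) i
  haveI : (∐ fun j => (K₀ j).homology i).IsQuasicoherent :=
    isQuasicoherent_sigma _ (fun j => inferInstance)
  exact QcAbel.isQuasicoherent_of_iso (homologyCoprodIso K₀ i).symm

end Groth.Agent.Lib.Helper5.QC
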