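import Mathlib
import Groth.Agent.Lib.Helper5.KInj.ProdD
import Groth.Agent.Lib.Helper5.KInj.Resolution
import Groth.Agent.Lib.Helper5.DRing.TruncTri

/-!
# An object of the derived category as the homotopy limit of its truncations (helper5)

If `K ⟶ lim I_n` is a quasi-isomorphism, where `I_n` is the tower of injective resolutions of the
canonical truncations `τ_{≥ -n} K`, then `E = Q K` sits in a distinguished triangle
`E ⟶ ∏ τ_{≥ -n} E ⟶ ∏ τ_{≥ -n} E ⟶ E[1]`.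
-/

set_option autoImplicit false
open CategoryTheory Limits CochainComplex

namespace Groth.Agent.Lib.Helper5.HolimTrunc

open Helper5.KInj DerivedCategory Pretriangulated Groth.Agent.Lib.Helper5.ProdD

universe w v u

variable {A : Type u} [Category.{v} A] [Abelian A] [HasDerivedCategory.{w} A]
  [EnoughInjectives A]

variable (K : CochainComplex A ℤ) {E : DerivedCategory A} (e : Q.obj K ≅ E)

/-- the identification `τ_{≥ -n} E ≅ Q(I_n)` -/
theorem exists_truncGE_iso (n : ℕ) :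
    ∃ ψ : (TStructure.t.truncGE (-(n : ℤ))).obj E ≅ Q.obj (tI K n),
      (TStructure.t.truncGEπ (-(n : ℤ))).app E ≫ ψ.hom = e.inv ≫ Q.map (ta K n) := by
  obtain ⟨e₁, e₃, h₁, h₃⟩ := Groth.Agent.Helper5.TruncTri.exists_truncIso K
    (-(n : ℤ) - 1) (-(n : ℤ)) (by omega)
  haveI : QuasiIso (stage K n).i := (stage K n).qi
  haveI : IsIso (Q.map (stage K n).i) := by
    rw [isIso_Q_map_iff_quasiIso]; infer_instance
  refine ⟨(TStructure.t.truncGE (-(n : ℤ))).mapIso e.symm ≪≫ e₃ ≪≫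
    asIso (Q.map (stage K n).i), ?_⟩
  dsimp only [Iso.trans_hom, Functor.mapIso_hom, Iso.symm_hom, asIso_hom]
  have hnat : (TStructure.t.truncGEπ (-(n : ℤ))).app E ≫
      (TStructure.t.truncGE (-(n : ℤ))).map e.inv =
      e.inv ≫ (TStructure.t.truncGEπ (-(n : ℤ))).app (Q.obj K) :=
    ((TStructure.t.truncGEπ (-(n : ℤ))).naturality e.inv).symm
  rw [reassoc_of% hnat, reassoc_of% h₃, ← Functor.map_comp]
  rfl

variable [HasLimitsOfShape (Discrete ℕ) A]

variable (hs : QuasiIso (holimLift (tI K) (tp K) (ta K) (ta_tp K)))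
  [HasProduct (fun n : ℕ => (TStructure.t.truncGE (-(n : ℤ))).obj E)]

include e hs in
/-- **the homotopy limit triangle** -/
theorem exists_holim_triangle :
    ∃ c : (∏ᶜ fun n : ℕ => (TStructure.t.truncGE (-(n : ℤ))).obj E) ⟶ E⟦(1 : ℤ)⟧,
      Triangle.mk
        (Pi.lift fun n : ℕ => (TStructure.t.truncGEπ (-(n : ℤ))).app E)
        (Pi.lift fun n : ℕ =>
          Pi.π (fun n : ℕ => (TStructure.t.truncGE (-(n : ℤ))).obj E) n -
          Pi.π (fun n : ℕ => (TStructure.t.truncGE (-(n : ℤ))).obj E) (n + 1) ≫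
            (TStructure.t.natTransTruncGEOfLE (-((n + 1 : ℕ) : ℤ)) (-(n : ℤ))
              (Int.neg_le_neg (Int.ofNat_le.mpr (Nat.le_succ n)))).app E)
        c ∈ distTriang (DerivedCategory A) := by
  classical
  choose ψ hψ using exists_truncGE_iso K e
  have hb : ∀ n : ℕ, (ψ (n + 1)).hom ≫ Q.map (tp K n) =
      (TStructure.t.natTransTruncGEOfLE (-((n + 1 : ℕ) : ℤ)) (-(n : ℤ))
        (Int.neg_le_neg (Int.ofNat_le.mpr (Nat.le_succ n)))).app E ≫ (ψ n).hom := by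
    intro n
    haveI h1 : TStructure.t.IsGE (Q.obj (tI K n)) (-(n : ℤ)) :=
      TStructure.t.isGE_of_iso (ψ n) (-(n : ℤ))
    haveI : TStructure.t.IsGE (Q.obj (tI K n)) (-((n + 1 : ℕ) : ℤ)) :=
      TStructure.t.isGE_of_ge _ (-((n + 1 : ℕ) : ℤ)) (-(n : ℤ)) (by push_cast; omega)
    apply TStructure.t.from_truncGE_obj_ext
    have h2 := TStructure.t.π_natTransTruncGEOfLE_app (-((n + 1 : ℕ) : ℤ)) (-(n : ℤ))
      (Int.neg_le_neg (Int.ofNat_le.mpr (Nat.le_succ n))) E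
    rw [reassoc_of% hψ (n + 1), ← Functor.map_comp, ta_tp, reassoc_of% h2, hψ n]
  let τ : ℕ → DerivedCategory A := fun n => (TStructure.t.truncGE (-(n : ℤ))).obj E
  let Ψhom : (∏ᶜ τ) ⟶ Q.obj (prodCx (tI K)) :=
    Qlift (tI K) (fun n => Pi.π τ n ≫ (ψ n).hom)
  let Ψinv : Q.obj (prodCx (tI K)) ⟶ ∏ᶜ τ :=
    Pi.lift (fun n => Q.map (prodCx.π (tI K) n) ≫ (ψ n).inv)
  have hΨ1 : ∀ n, Ψhom ≫ Q.map (prodCx.π (tI K) n) = Pi.π τ n ≫ (ψ n).hom :=
    fun n => Qlift_π (tI K) _ n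
  have hΨ2 : ∀ n, Ψinv ≫ Pi.π τ n = Q.map (prodCx.π (tI K) n) ≫ (ψ n).inv :=
    fun n => Pi.lift_π _ n
  let Ψ : (∏ᶜ τ) ≅ Q.obj (prodCx (tI K)) :=
    { hom := Ψhom
      inv := Ψinv
      hom_inv_id := by
        apply Pi.hom_ext
        intro n
        rw [Category.assoc, hΨ2, reassoc_of% hΨ1, Iso.hom_inv_id, Category.comp_id,
          Category.id_comp]
      inv_hom_id := by
        apply Q_hom_ext (tI K)
        intro n
        rw [Category.assoc, hΨ1, reassoc_of% hΨ2, Iso.inv_hom_id, Category.comp_id,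
          Category.id_comp] }
  have hSES := holimSC_shortExact (tI K) (tp K) (exists_section_tp K)
  have hT := triangleOfSES_distinguished hSES
  haveI : IsIso (Q.map (holimLift (tI K) (tp K) (ta K) (ta_tp K))) := by
    rw [isIso_Q_map_iff_quasiIso]; exact hs
  let α : E ≅ Q.obj (holim (tI K) (tp K)) :=
    e.symm ≪≫ asIso (Q.map (holimLift (tI K) (tp K) (ta K) (ta_tp K)))
  have c1 : (Pi.lift fun n : ℕ => (TStructure.t.truncGEπ (-(n : ℤ))).app E) ≫ Ψ.hom =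
      α.hom ≫ Q.map (holimι (tI K) (tp K)) := by
    apply Q_hom_ext (tI K)
    intro n
    change (_ ≫ Ψhom) ≫ _ = _
    rw [Category.assoc, Category.assoc, hΨ1, Pi.lift_π_assoc, hψ n]
    dsimp only [α, Iso.trans_hom, Iso.symm_hom, asIso_hom]
    rw [Category.assoc, ← Functor.map_comp, ← Functor.map_comp, holimLift_ι_π]
  have c2 : (Pi.lift fun n : ℕ =>
        Pi.π (fun n : ℕ => (TStructure.t.truncGE (-(n : ℤ))).obj E) n -
        Pi.π (fun n : ℕ => (TStructure.t.truncGE (-(n : ℤ))).obj E) (n + 1) ≫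
          (TStructure.t.natTransTruncGEOfLE (-((n + 1 : ℕ) : ℤ)) (-(n : ℤ))
            (Int.neg_le_neg (Int.ofNat_le.mpr (Nat.le_succ n)))).app E) ≫ Ψ.hom =
      Ψ.hom ≫ Q.map (Dm (tI K) (tp K)) := by
    apply Q_hom_ext (tI K)
    intro n
    change (_ ≫ Ψhom) ≫ _ = (Ψhom ≫ _) ≫ _
    rw [Category.assoc, Category.assoc, hΨ1, Pi.lift_π_assoc, ← Functor.map_comp, Dm_π,
      Functor.map_sub, Functor.map_comp, Preadditive.comp_sub, Preadditive.sub_comp,
      reassoc_of% hΨ1, hΨ1, hb n, Category.assoc]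
  refine ⟨Ψ.hom ≫ triangleOfSESδ hSES ≫ (α.inv)⟦(1 : ℤ)⟧', ?_⟩
  refine isomorphic_distinguished _ hT _ (Triangle.isoMk _ _ α Ψ Ψ c1 c2 ?_)
  change (Ψ.hom ≫ triangleOfSESδ hSES ≫ (α.inv)⟦(1 : ℤ)⟧') ≫ (α.hom)⟦(1 : ℤ)⟧' =
    Ψ.hom ≫ triangleOfSESδ hSES
  have h3 : (α.inv)⟦(1 : ℤ)⟧' ≫ (α.hom)⟦(1 : ℤ)⟧' = 𝟙 _ := by
    rw [← Functor.map_comp, α.inv_hom_id, CategoryTheory.Functor.map_id]
  rw [Category.assoc, Category.assoc]
  erw [h3, Category.comp_id]
  rfl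

end Groth.Agent.Lib.Helper5.HolimTrunc
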